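import Cfsg.Agent.H133.Ore.Tools
import Cfsg.Agent.H208.DS.Cent
import Cfsg.Agent.H847.Irr
import Cfsg.Agent.H121.Cyc.Mathieu
import Cfsg.Agent.H306.OdmRowCo2
import Cfsg.Agent.H49.CoStab
import Cfsg.Agent.S0399
import Cfsg.Agent.H843.IMC.Frame3_m3
import Cfsg.Agent.S0366
import Cfsg.Agent.H570.Ore.Blk_m3
import Cfsg.Agent.H596.Degree
import Cfsg.Agent.H843.IMC.Co1B
import Cfsg.Agent.CoOneType.ClosingCo1
import Cfsg.Agent.H823.Rec.Co1Facts
import Cfsg.Agent.H686.CharKit
import Cfsg.Agent.SporadicStructure.M24El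
import Cfsg.Agent.H866.InvolType
import Cfsg.Agent.S0365
import Cfsg.Agent.H850.Cod.Basic
import Cfsg.Agent.FastGrp
import Cfsg.Agent.Prune
set_option linter.all false

section
prune_inst 0x7ff1effa9bacfbffdfff7e3ffff8dffc7586afffe6dff943ffe06fbffb9f6bb32bc5fba78dead8fede76e2b410b87853fb7eeeffe86bdc7ffffd57b41ffbee4ff5f7350151dd98b40eae0ffe03f1772e6f3fffffffffffffffffffffffffffffffffebfeffff

-- part: H133/Ore/DegCo1
section
set_option linter.all false
open scoped Cfsg.Agent.FastGrp

/-!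
# ORE (S2443), T1 for `Co1` and `Co2` (helper133)

* `Co1.degOff` : `DegOff Spor.Co1 23 288`; `Co1.isC` : `|C(g)| ≤ 887` gives `IsC g`;
* `Co2.degOff` : `DegOff Spor.Co2 11 23`; `Co2.isC` : `|C(g)| ≤ 52` gives `IsC g`.
-/

set_option autoImplicit false

open Cfsg Subgroup

namespace Cfsg.Agent.H133.Ore

open Cfsg.Agent.H653.Sieve Cfsg.Agent.H651.Two Cfsg.Agent.Characters.Core
open Cfsg.Agent.H511.Ore (MinDeg NoDeg DegOff s4 tst isC_of_data degOff_of_check)
open Cfsg.Agent.H777.Ore (IsC)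

universe u

/-! ### `Co1` -/

namespace Co1

def c23 : CD := ⟨23, 1, 11, 2, [(0, 0), (1, 2), (11, -1), (12, 1), (22, -2)], 2, true⟩

def cd : List CD := [c23]

theorem ok : (cd.all (CD.ok 4157776806543360000)) = true := by decide +kernel

def facs : List (ℕ × ℕ) := [(23, 1), (13, 1), (11, 1), (7, 2), (5, 4), (3, 9), (2, 21)]

theorem facs_prime : (facs.all fun pa => Nat.Prime pa.1) = true := by norm_num [facs]

theorem facs_prod : facProd facs = 4157776806543360000 := by decide +kernel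

theorem chk : allDiv (288 * 288) (tst 23 276 [] cd) facs 1 = true := by decide +kernel

theorem simple : IsSimpleGroup Spor.Co1 := Cfsg.Agent.S0399.result.1

theorem card : Nat.card Spor.Co1 = 4157776806543360000 := BpSpor.MBigCo.card_co1

theorem fin : Finite Spor.Co1 := BpSpor.MBigCo.finite_co1

theorem not_comm : ¬ IsMulCommutative Spor.Co1 := by
  have := simple
  have := fin
  exact H604.Cop.Conway.not_comm_of_card (by rw [card]; norm_num)

theorem minDeg : MinDeg Spor.Co1 276 := by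
  have := simple
  have := fin
  refine minDeg_of_irr not_comm fun k ρ hρ hk => ?_
  by_contra hlt
  obtain ⟨g, hg⟩ := Cfsg.Agent.H121.Chr.exists_ne_one ρ hρ hk
  exact hg (Cfsg.Agent.H847.Co1Small.trivial_of_lt ρ (by rw [Module.finrank_fin_fun]; omega) g)

theorem has : ∀ d ∈ cd, d.Has Spor.Co1 := by
  have := fin
  intro d hd
  simp only [cd, List.mem_cons, List.not_mem_nil, or_false] at hd
  subst hd
  obtain ⟨x, hx⟩ := exists_order card (p := 23) (by norm_num) (by norm_num)
  exact has_of_eq (d := c23) (by norm_num [c23]) hx (H208.DS.cent_co1 ⟨MulEquiv.refl _⟩ hx)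

end Co1

/-! ### `Co2` -/

namespace Co2

def c11 : CD := ⟨11, 1, 10, 1, [(0, 0), (1, 1), (10, -1)], 0, false⟩

def c23 : CD := ⟨23, 1, 11, 2, [(0, 0), (1, 2), (11, -1), (12, 1), (22, -2)], 2, true⟩

def cd : List CD := [c11, c23]

theorem ok : (cd.all (CD.ok 42305421312000)) = true := by decide +kernel

def facs : List (ℕ × ℕ) := [(23, 1), (11, 1), (7, 1), (5, 3), (3, 6), (2, 18)]

theorem facs_prime : (facs.all fun pa => Nat.Prime pa.1) = true := by norm_num [facs]

theorem simple : IsSimpleGroup Spor.Co2 := H49.CoStab.simple_co2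

theorem card : Nat.card Spor.Co2 = 42305421312000 := H49.CoStab.card_co2

theorem fin : Finite Spor.Co2 := H49.CoStab.finite_co2

theorem not_comm : ¬ IsMulCommutative Spor.Co2 := by
  have := simple
  have := fin
  exact H604.Cop.Conway.not_comm_of_card (by rw [card]; norm_num)

theorem minDeg : MinDeg Spor.Co2 21 := by
  have := simple
  have := fin
  exact minDeg_of_rep not_comm (H121.Cyc.co2 ⟨MulEquiv.refl _⟩)

theorem has : ∀ d ∈ cd, d.Has Spor.Co2 := by
  have := fin
  intro d hd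
  simp only [cd, List.mem_cons, List.not_mem_nil, or_false] at hd
  rcases hd with rfl | rfl
  · obtain ⟨x, hx⟩ := exists_order card (p := 11) (by norm_num) (by norm_num)
    exact has_of_eq (d := c11) (by norm_num [c11]) hx (H306.OdmRowCo2.cent_eleven hx)
  · obtain ⟨x, hx⟩ := exists_order card (p := 23) (by norm_num) (by norm_num)
    exact has_of_eq (d := c23) (by norm_num [c23]) hx (H208.DS.cent_co2 ⟨MulEquiv.refl _⟩ hx)

end Co2

end Cfsg.Agent.H133.Ore

private theorem dce_e3d88b477274 : _root_.True := by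
  try have : _root_.True := by simp only [_root_.Cfsg.Agent.H133.Ore.Co1.c23.eq_1]
  try have : _root_.True := by simp only [_root_.Cfsg.Agent.H133.Ore.Co2.facs.eq_1]
  try have : _root_.True := by simp only [_root_.Cfsg.Agent.H133.Ore.Co2.cd.eq_1]
  try have : _root_.True := by simp only [_root_.Cfsg.Agent.H133.Ore.Co2.c11.eq_1]
  try have : _root_.True := by simp only [_root_.Cfsg.Agent.H133.Ore.Co2.c23.eq_1]
  try have : _root_.True := by simp only [_root_.Cfsg.Agent.H133.Ore.Co1.facs.eq_1]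
  try have : _root_.True := by simp only [_root_.Cfsg.Agent.H133.Ore.Co1.cd.eq_1]
  exact _root_.True.intro
end

-- part: H590/Ore/CoOneSieve
section
set_option linter.all false
open scoped Cfsg.Agent.FastGrp

-- part: H590/Ore/CoOnePart
section
/-!
# Representations of `Co1` restricted to `2^11 : M24` (helper590)

`R` a representation of `Co1` on `W`, `A` = fixed space of `2^11`, `pS R S` the projection on the part of `2^11` belonging
to the set `S`; if `c = 0` (no tetrads), `W` is the sum of `A` and the parts of the 276 duads: `trace_split`.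
-/

set_option autoImplicit false
set_option linter.unusedSectionVars false

namespace Cfsg.Agent.H590.Ore.CoOneDeg

open Module Cfsg Cfsg.Agent.H847.Avg Cfsg.Agent.H847.Co1Small
open Cfsg.Agent.SporadicA.Co0Mono (signCo0 permCo0 wordPerm wordPerm_apply perm_mul_sign)
open Cfsg.Agent.CoOneType.CoOneE (pr)
open Cfsg.Agent.H843.IMC.LamCo1 (wp)
open scoped Pointwise

/-! ### projections -/

section Proj

variable {V : Type*} [AddCommGroup V] [Module ℂ V] [FiniteDimensional ℂ V]

theorem isProj_range {p : V →ₗ[ℂ] V} (h : p * p = p) : LinearMap.IsProj (LinearMap.range p) p :=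
  ⟨fun x => ⟨x, rfl⟩, by rintro _ ⟨x, rfl⟩; exact congrArg (fun f : V →ₗ[ℂ] V => f x) h⟩

theorem eq_one_of_trace {p : V →ₗ[ℂ] V} (hp : p * p = p) (h : LinearMap.trace ℂ V p = (finrank ℂ V : ℂ)) : p = 1 := by
  have h1 := (isProj_range hp).trace
  rw [h] at h1
  have h2 : LinearMap.range p = ⊤ := Submodule.eq_top_of_finrank_eq (by exact_mod_cast h1.symm)
  ext x
  exact (isProj_range hp).map_id x (by rw [h2]; trivial)

/-- the trace of an involution -/
theorem trace_inv {u : V →ₗ[ℂ] V} (hu : u * u = 1) :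
    LinearMap.trace ℂ V u = 2 * (finrank ℂ (LinearMap.ker (u - 1)) : ℂ) - finrank ℂ V := by
  have h1 : LinearMap.IsProj (LinearMap.ker (u - 1)) ((1 / 2 : ℂ) • (u + 1)) := by
    refine ⟨fun x => ?_, fun x hx => ?_⟩
    · rw [LinearMap.mem_ker]
      have h2 : (u - 1) * ((1 / 2 : ℂ) • (u + 1)) = 0 := by
        rw [mul_smul_comm, sub_mul, mul_add, hu, mul_one, one_mul]
        simp [add_comm]
      exact congrArg (fun f : V →ₗ[ℂ] V => f x) h2
    · rw [LinearMap.mem_ker, LinearMap.sub_apply, sub_eq_zero] at hx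
      rw [LinearMap.smul_apply, LinearMap.add_apply, hx]
      simp only [Module.End.one_apply]
      rw [← two_smul ℂ x, smul_smul]
      norm_num
  have h2 := h1.trace
  rw [map_smul, map_add, LinearMap.trace_one, smul_eq_mul] at h2
  linear_combination 2 * h2

variable {A : Type*} [Group A] [Fintype A]

theorem avg_sq (r : A →* (V →ₗ[ℂ] V)) {lam : A → ℂ} (h : Lin lam) : avg r lam * avg r lam = avg r lam := by
  ext x
  exact avg_eq r h fun b => apply_avg r h b x

theorem avg_mul_avg (r : A →* (V →ₗ[ℂ] V)) {lam mu : A → ℂ} (hl : Lin lam) (hm : Lin mu) (h : lam ≠ mu) :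
    avg r lam * avg r mu = 0 := by
  obtain ⟨b, hb⟩ := Function.ne_iff.1 h
  have h1 : avg r lam * r b * avg r mu = lam b • (avg r lam * avg r mu) := by rw [avg_mul r hl, smul_mul_assoc]
  have h2 : avg r lam * r b * avg r mu = mu b • (avg r lam * avg r mu) := by
    rw [mul_assoc, mul_avg r hm, mul_smul_comm]
  have h3 : (lam b - mu b) • (avg r lam * avg r mu) = 0 := by rw [sub_smul, ← h1, ← h2, sub_self]
  exact (smul_eq_zero.1 h3).resolve_left (sub_ne_zero.2 hb)

end Proj

/-! ### duads -/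

noncomputable instance fintype_code : Fintype (Multiplicative golayCode) := Fintype.ofFinite _

/-- the duads -/
def D : Finset (Finset GolayPt) := Finset.univ.powersetCard 2

theorem mem_D {S : Finset GolayPt} : S ∈ D ↔ S.card = 2 := by
  unfold D
  rw [Finset.mem_powersetCard]
  exact ⟨fun h => h.2, fun h => ⟨Finset.subset_univ _, h⟩⟩

theorem card_D : D.card = 276 := by
  unfold D
  rw [Finset.card_powersetCard, Finset.card_univ]
  rfl

/-- the duad `{0, 1}` -/
def S0 : Finset GolayPt := {some 0, some 1}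

theorem smul_mem_D {g : M24} {S : Finset GolayPt} : g • S ∈ D ↔ S ∈ D := by
  rw [mem_D, mem_D, Finset.card_smul_finset]

theorem exists_smul_S0 {S : Finset GolayPt} (hS : S ∈ D) : ∃ g : M24, g • S0 = S := by
  obtain ⟨p, q, hpq, rfl⟩ := Finset.card_eq_two.1 (mem_D.1 hS)
  have h5 : MulAction.IsMultiplyPretransitive M24 GolayPt 5 := Cfsg.Agent.S0366.result
  have h2 : MulAction.IsMultiplyPretransitive M24 GolayPt 2 :=
    MulAction.isMultiplyPretransitive_of_le (n := 5) (by norm_num) (by simp [GolayPt])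
  obtain ⟨g, h0, h1⟩ := (MulAction.is_two_pretransitive_iff.1 h2) (show (some 0 : GolayPt) ≠ some 1 by decide) hpq
  refine ⟨g, ?_⟩
  unfold S0
  rw [Finset.smul_finset_insert, Finset.smul_finset_singleton, h0, h1]

theorem chi_smul (g : M24) (S : Finset GolayPt) (c : Multiplicative golayCode) : chi (g • S) (wp g c) = chi S c := by
  unfold chi
  congr 1
  have h1 : g • S = S.map (g : Equiv.Perm GolayPt).toEmbedding :=
    Cfsg.Agent.SporadicA.GolayPerm.smul_finset_eq_map (g : Equiv.Perm GolayPt) S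
  rw [h1, Finset.sum_map]
  refine Finset.sum_congr rfl fun p _ => ?_
  show ((c.toAdd : golayCode) : GolayPt → ZMod 2) ((g : Equiv.Perm GolayPt).symm ((g : Equiv.Perm GolayPt) p)) = _
  rw [Equiv.symm_apply_apply]

theorem chi_inj_smul {g : M24} {S T : Finset GolayPt} (h : chi (g • S) = chi (g • T)) : chi S = chi T := by
  funext c
  rw [← chi_smul g S c, h, chi_smul]

theorem sep0 : ∀ a < 24, ∀ b < 24, a < b → ∃ k < 12,
    (Cfsg.Agent.SporadicA.GolayBase.basisMask k).testBit a ≠ (Cfsg.Agent.SporadicA.GolayBase.basisMask k).testBit b := by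
  decide +kernel

theorem sep1 : ∀ a < 24, ∀ b < 24, a < b → (a = 0 ∧ b = 1) ∨ ∃ k < 12,
    xor ((Cfsg.Agent.SporadicA.GolayBase.basisMask k).testBit 0) ((Cfsg.Agent.SporadicA.GolayBase.basisMask k).testBit 1) ≠
    xor ((Cfsg.Agent.SporadicA.GolayBase.basisMask k).testBit a) ((Cfsg.Agent.SporadicA.GolayBase.basisMask k).testBit b) := by
  decide +kernel

open Cfsg.Agent.SporadicA.GolayBase in
theorem basis_code (k : ℕ) (hk : k < 12) : word (basisMask k) ∈ golayCode := by
  obtain ⟨h0, h1, h2, h3, h4, h5, h6, h7, h8, h9, h10, h11⟩ := basis_mem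
  interval_cases k
  · exact h0
  · exact h1
  · exact h2
  · exact h3
  · exact h4
  · exact h5
  · exact h6
  · exact h7
  · exact h8
  · exact h9
  · exact h10
  · exact h11

theorem sg_ne {x y : ZMod 2} (h : x ≠ y) : sg x ≠ sg y := by
  rcases zcases x with rfl | rfl <;> rcases zcases y with rfl | rfl
  · exact absurd rfl h
  · rw [sg_zero, sg_one]; norm_num
  · rw [sg_zero, sg_one]; norm_num
  · exact absurd rfl h

theorem key2' : ∀ x y u v : Bool, xor x y ≠ xor u v →
    (if x then (1 : ZMod 2) else 0) + (if y then (1 : ZMod 2) else 0) ≠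
    (if u then (1 : ZMod 2) else 0) + (if v then (1 : ZMod 2) else 0) := by decide

theorem key1' : ∀ x y : Bool, x ≠ y → (0 : ZMod 2) ≠
    (if x then (1 : ZMod 2) else 0) + (if y then (1 : ZMod 2) else 0) := by decide

/-- two ordered points -/
theorem exists_idx {S : Finset GolayPt} (hS : S ∈ D) : ∃ p q : GolayPt, S = {p, q} ∧
    SporadicA.GolayBase.idx p < SporadicA.GolayBase.idx q := by
  obtain ⟨p, q, hpq, rfl⟩ := Finset.card_eq_two.1 (mem_D.1 hS)
  rcases Nat.lt_trichotomy (SporadicA.GolayBase.idx p) (SporadicA.GolayBase.idx q) with h | h | h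
  · exact ⟨p, q, rfl, h⟩
  · exact absurd (SporadicA.GolayBase.idx_injective h) hpq
  · exact ⟨q, p, Finset.pair_comm p q, h⟩

open Cfsg.Agent.SporadicA.GolayBase in
theorem chi_empty_ne {S : Finset GolayPt} (hS : S ∈ D) : chi ∅ ≠ chi S := by
  obtain ⟨p, q, rfl, hpq⟩ := exists_idx hS
  obtain ⟨k, hk, hne⟩ := sep0 _ (idx_lt p) _ (idx_lt q) hpq
  intro h
  have h1 := congrFun h (Multiplicative.ofAdd ⟨word (basisMask k), basis_code k hk⟩)
  unfold chi at h1
  revert h1
  refine sg_ne ?_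
  have hpq' : p ≠ q := by rintro rfl; exact lt_irrefl _ hpq
  rw [Finset.sum_empty, Finset.sum_pair hpq']
  exact key1' _ _ hne

open Cfsg.Agent.SporadicA.GolayBase in
theorem chi_S0_ne {S : Finset GolayPt} (hS : S ∈ D) (h0 : S ≠ S0) : chi S0 ≠ chi S := by
  obtain ⟨p, q, rfl, hpq⟩ := exists_idx hS
  rcases sep1 _ (idx_lt p) _ (idx_lt q) hpq with ⟨h1, h2⟩ | ⟨k, hk, hne⟩
  · exfalso
    apply h0
    have e1 : p = some 0 := idx_injective h1
    have e2 : q = some 1 := idx_injective h2
    rw [e1, e2]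
    rfl
  intro h
  have h1 := congrFun h (Multiplicative.ofAdd ⟨word (basisMask k), basis_code k hk⟩)
  unfold chi at h1
  revert h1
  refine sg_ne ?_
  have hpq' : p ≠ q := by rintro rfl; exact lt_irrefl _ hpq
  unfold S0
  rw [Finset.sum_pair (by decide), Finset.sum_pair hpq']
  exact key2' _ _ _ _ hne

theorem chi_ne {S T : Finset GolayPt} (hS : S ∈ D) (hT : T ∈ D) (h : S ≠ T) : chi S ≠ chi T := by
  obtain ⟨g, rfl⟩ := exists_smul_S0 hS
  intro h1
  have h2 : T = g • (g⁻¹ • T) := (smul_inv_smul g T).symm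
  rw [h2] at h1
  refine chi_S0_ne (S := g⁻¹ • T) (smul_mem_D.2 hT) ?_ (chi_inj_smul h1)
  rintro h3
  apply h
  rw [← h3, smul_inv_smul]

/-- the family of sets: empty set and duads -/
def F : Finset (Finset GolayPt) := insert ∅ D

theorem empty_notMem_D : (∅ : Finset GolayPt) ∉ D := by
  rw [mem_D, Finset.card_empty]; norm_num

theorem chi_ne_F {S T : Finset GolayPt} (hS : S ∈ F) (hT : T ∈ F) (h : S ≠ T) : chi S ≠ chi T := by
  rcases Finset.mem_insert.1 hS with rfl | hS <;> rcases Finset.mem_insert.1 hT with rfl | hT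
  · exact absurd rfl h
  · exact chi_empty_ne hT
  · exact (chi_empty_ne hS).symm
  · exact chi_ne hS hT h

theorem smul_mem_F {g : M24} {S : Finset GolayPt} (hS : S ∈ F) : g • S ∈ F := by
  rcases Finset.mem_insert.1 hS with rfl | hS
  · rw [Finset.smul_finset_empty]
    exact hS
  · exact Finset.mem_insert_of_mem (smul_mem_D.2 hS)

/-! ### the parts -/

variable {W : Type} [AddCommGroup W] [Module ℂ W]

/-- the projection on the part of `S` -/
noncomputable def pS (R : Spor.Co1 →* (W →ₗ[ℂ] W)) (S : Finset GolayPt) : W →ₗ[ℂ] W := avg (rcode R) (chi S)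

/-- the representation of `M24` -/
noncomputable def rp (R : Spor.Co1 →* (W →ₗ[ℂ] W)) : M24 →* (W →ₗ[ℂ] W) := R.comp (pr.comp permCo0)

theorem rp_mul_pS (R : Spor.Co1 →* (W →ₗ[ℂ] W)) (g : M24) (S : Finset GolayPt) :
    rp R g * pS R S = pS R (g • S) * rp R g := by
  unfold pS avg
  rw [mul_smul_comm, smul_mul_assoc, Finset.mul_sum, Finset.sum_mul]
  congr 1
  refine Fintype.sum_equiv (wp g).toEquiv _ _ fun c => ?_
  rw [mul_smul_comm, smul_mul_assoc]
  show chi S c • (rp R g * rcode R c) = chi (g • S) (wp g c) • (rcode R (wp g c) * rp R g)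
  rw [chi_smul]
  congr 1
  show R (pr (permCo0 g)) * R (pr (signCo0 c.toAdd)) = R (pr (signCo0 (wordPerm g c.toAdd))) * R (pr (permCo0 g))
  rw [← map_mul, ← map_mul, ← map_mul, ← map_mul, perm_mul_sign]

variable [FiniteDimensional ℂ W] (R : Spor.Co1 →* (W →ₗ[ℂ] W))

theorem pS_sq (S : Finset GolayPt) : pS R S * pS R S = pS R S := avg_sq _ (lin_chi S)

theorem pS_mul {S T : Finset GolayPt} (hS : S ∈ F) (hT : T ∈ F) (h : S ≠ T) : pS R S * pS R T = 0 :=
  avg_mul_avg _ (lin_chi S) (lin_chi T) (chi_ne_F hS hT h)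

theorem trace_pS (S : Finset GolayPt) : LinearMap.trace ℂ W (pS R S) = (finrank ℂ (eig (rcode R) (chi S)) : ℂ) :=
  trace_avg _ (lin_chi S)

theorem rp_inv (g : M24) : rp R g * rp R g⁻¹ = 1 := by rw [← map_mul, mul_inv_cancel, map_one]

theorem trace_smul (g : M24) (S : Finset GolayPt) :
    LinearMap.trace ℂ W (pS R (g • S)) = LinearMap.trace ℂ W (pS R S) := by
  have h1 : pS R (g • S) = rp R g * pS R S * rp R g⁻¹ := by
    rw [rp_mul_pS, mul_assoc, rp_inv, mul_one]
  rw [h1, LinearMap.trace_mul_comm, ← mul_assoc, ← map_mul, inv_mul_cancel, map_one, one_mul]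

/-- the dimension of the fixed space -/
noncomputable def dA : ℕ := finrank ℂ (eig (rcode R) (chi ∅))

/-- the multiplicity of a duad -/
noncomputable def dB : ℕ := finrank ℂ (eig (rcode R) (chi S0))

/-- the multiplicity of a tetrad -/
noncomputable def dC : ℕ := finrank ℂ (eig (rcode R) (chi {some 0, some 1, some 2, some 3}))

theorem sum_eq : dA R + 276 * dB R + 1771 * dC R = finrank ℂ W := mult_sum R

theorem trace_empty : LinearMap.trace ℂ W (pS R ∅) = dA R := trace_pS R ∅

theorem trace_duad {S : Finset GolayPt} (hS : S ∈ D) : LinearMap.trace ℂ W (pS R S) = dB R := by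
  obtain ⟨g, rfl⟩ := exists_smul_S0 hS
  rw [trace_smul, trace_pS]
  rfl

theorem finrank_duad {S : Finset GolayPt} (hS : S ∈ D) : finrank ℂ (eig (rcode R) (chi S)) = dB R := by
  have h1 := trace_duad R hS
  rw [trace_pS] at h1
  exact_mod_cast h1

/-- the sum of the projections -/
noncomputable def pF : W →ₗ[ℂ] W := ∑ S ∈ F, pS R S

theorem pF_sq : pF R * pF R = pF R := by
  unfold pF
  rw [Finset.sum_mul_sum]
  refine Finset.sum_congr rfl fun S hS => ?_
  rw [Finset.sum_eq_single S]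
  · exact pS_sq R S
  · intro T hT hne
    exact pS_mul R hS hT hne.symm
  · intro h; exact absurd hS h

theorem pF_eq_one (hc : dC R = 0) : pF R = 1 := by
  refine eq_one_of_trace (pF_sq R) ?_
  unfold pF F
  rw [Finset.sum_insert empty_notMem_D, map_add, map_sum, trace_empty, Finset.sum_congr rfl fun S hS => trace_duad R hS,
    Finset.sum_const, card_D, ← sum_eq R, hc]
  push_cast
  rw [nsmul_eq_mul]
  push_cast
  ring

theorem trace_move (g : M24) {S : Finset GolayPt} (hS : S ∈ F) (h : g • S ≠ S) :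
    LinearMap.trace ℂ W (rp R g * pS R S) = 0 := by
  have h1 : rp R g * pS R S = rp R g * pS R S * pS R S := by rw [mul_assoc, pS_sq]
  rw [h1, LinearMap.trace_mul_comm, rp_mul_pS, ← mul_assoc, pS_mul R hS (smul_mem_F hS) h.symm, zero_mul, map_zero]

/-- **The trace of an element of `M24`.** -/
theorem trace_split (hc : dC R = 0) (g : M24) :
    LinearMap.trace ℂ W (rp R g) = LinearMap.trace ℂ W (rp R g * pS R ∅) +
      ∑ S ∈ D.filter (fun S => g • S = S), (LinearMap.trace ℂ W (rp R g * pS R S) :) := by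
  have h1 : rp R g = rp R g * pF R := by rw [pF_eq_one R hc, mul_one]
  rw [h1]
  conv_lhs => unfold pF F
  rw [Finset.sum_insert empty_notMem_D, mul_add, map_add, ← h1]
  congr 1
  rw [Finset.mul_sum, map_sum, Finset.sum_filter]
  refine Finset.sum_congr rfl fun S hS => ?_
  split_ifs with h
  · rfl
  · exact trace_move R g (Finset.mem_insert_of_mem hS) h

/-! ### the action on a part -/

theorem rp_mem {g : M24} {S : Finset GolayPt} (h : g • S = S) {x : W} (hx : x ∈ eig (rcode R) (chi S)) :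
    rp R g x ∈ eig (rcode R) (chi S) := by
  have h1 : pS R S x = x := (isProj (rcode R) (lin_chi S)).map_id x hx
  have h2 : rp R g x = pS R S (rp R g x) := by
    conv_lhs => rw [← h1]
    have := congrArg (fun f : W →ₗ[ℂ] W => f x) (rp_mul_pS R g S)
    rw [h] at this
    exact this
  rw [h2]
  exact (isProj (rcode R) (lin_chi S)).map_mem _

theorem trace_restrict {g : M24} {S : Finset GolayPt} (h : g • S = S) :
    LinearMap.trace ℂ W (rp R g * pS R S) =
      LinearMap.trace ℂ (eig (rcode R) (chi S)) ((rp R g).restrict fun x hx => rp_mem R h hx) := by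
  have hf : ∀ x, (rp R g * pS R S) x ∈ eig (rcode R) (chi S) := fun x =>
    rp_mem R h ((isProj (rcode R) (lin_chi S)).map_mem x)
  rw [← LinearMap.trace_restrict_eq_of_forall_mem _ _ hf]
  congr 1
  ext x
  rw [LinearMap.coe_restrict_apply, LinearMap.coe_restrict_apply, Module.End.mul_apply]
  congr 1
  exact (isProj (rcode R) (lin_chi S)).map_id _ x.2

/-- the trace of an involution on a part -/
theorem trace_part {g : M24} (hg : g * g = 1) {S : Finset GolayPt} (h : g • S = S) :
    ∃ m : ℕ, m ≤ finrank ℂ (eig (rcode R) (chi S)) ∧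
      LinearMap.trace ℂ W (rp R g * pS R S) = 2 * (m : ℂ) - finrank ℂ (eig (rcode R) (chi S)) := by
  rw [trace_restrict R h]
  refine ⟨finrank ℂ (LinearMap.ker ((rp R g).restrict (fun _ hx => rp_mem R h hx) - 1)), Submodule.finrank_le _, ?_⟩
  refine trace_inv ?_
  ext x
  have h1 : rp R g (rp R g x) = x := by
    have : rp R g * rp R g = 1 := by rw [← map_mul, hg, map_one]
    exact congrArg (fun f : W →ₗ[ℂ] W => f x) this
  exact h1

/-- the representation of `M24` on the fixed space of `2^11` -/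
noncomputable def rA : M24 →* (eig (rcode R) (chi ∅) →ₗ[ℂ] eig (rcode R) (chi ∅)) where
  toFun g := (rp R g).restrict fun x hx => rp_mem R (Finset.smul_finset_empty g) hx
  map_one' := by
    ext x
    show rp R 1 x = x
    rw [map_one]
    rfl
  map_mul' g h := by
    ext x
    show rp R (g * h) x = rp R g (rp R h x)
    rw [map_mul]
    rfl

theorem trace_rA (g : M24) : LinearMap.trace ℂ _ (rA R g) = LinearMap.trace ℂ W (rp R g * pS R ∅) :=
  (trace_restrict R (Finset.smul_finset_empty g)).symm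

end Cfsg.Agent.H590.Ore.CoOneDeg
end

-- part: H590/Ore/Exact
section
/-!
# Exact values on the `p`-singular elements (helper590)

`P` a Sylow subgroup of order `p`, `|N(P) : C(P)| = p - 1`, `C(P) = P × K`, `N(P)` acts trivially on `Irr K`:
`exact_value` : `χ (x s) = ε θ(s)` for all `1 ≠ x ∈ P`, `s ∈ K`, where `ε = ± 1`, `θ ∈ Irr K`, or `χ` vanishes.
`six` : if `|K| = 6` and `K` is not abelian then `(χ(x), χ(x s)) ∈ {(0, 0), ± (1, 1), ± (1, -1), ± (2, 0)}` for the
involutions `s` of `K`.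
-/

set_option autoImplicit false
set_option linter.unusedSectionVars false

open Cfsg Subgroup
open scoped ComplexConjugate

namespace Cfsg.Agent.H590.Ore.Exact

open Cfsg.Agent.H653.Sieve Cfsg.Agent.Characters.Core
open Cfsg.Agent.SmallSimple.ThetaSetup Cfsg.Agent.SmallSimple.ThetaOrtho
open Cfsg.Agent.SmallSimple.TheoremC Cfsg.Agent.SmallSimple.TheoremCCor
open Cfsg.Agent.SmallSimple.PrimeDual Cfsg.Agent.SmallSimple.ThetaCount

universe u

variable {G : Type u} [Group G] [Finite G] [Fintype (IrrCharacter G)] {p : ℕ} [hp : Fact p.Prime] {P : Sylow p G}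
  {K : Subgroup G}

/-- **The exact values.** -/
theorem exact_value (hK : IsComp p (P : Subgroup G) K) (hP : Nat.card P = p)
    (he : (centralizer ((P : Subgroup G) : Set G)).relIndex (normalizer ((P : Subgroup G) : Set G)) = p - 1)
    (horb : ∀ θ : IrrCharacter K, orb P K (θ : K → ℂ) = {θ}) (χ : IrrCharacter G) :
    (∀ g : G, p ∣ orderOf g → (χ : G → ℂ) g = 0) ∨ ∃ (θ : IrrCharacter K) (ε : ℤ), (ε = 1 ∨ ε = -1) ∧
      ∀ x : (P : Subgroup G), x ≠ 1 → ∀ s : K, (χ : G → ℂ) (x * s) = ε * (θ : K → ℂ) s := by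
  classical
  by_cases hv : ∃ g : G, p ∣ orderOf g ∧ (χ : G → ℂ) g ≠ 0
  · right
    obtain ⟨θ, hθ⟩ := exists_mem_Over hK hP (χ := χ) hv
    have hcm := card_stabAct_mul_card_orb hK hP θ.2
    rw [he, horb θ, Finset.card_singleton, mul_one] at hcm
    obtain ⟨NE, X, ε, d, S, hB, -, hNE, hX, hε, hd, hval, hvalX, -, -, -⟩ :=
      theoremC hK hP θ.2 hcm (mul_one _)
    have key : ∀ x : (P : Subgroup G), x ≠ 1 → ∀ s : K,
        (χ : G → ℂ) (x * s) = part (θ : K → ℂ) (χ : G → ℂ) x * (θ : K → ℂ) s := by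
      intro x hx s
      rw [apply_mul_orb hK hP θ.2 hθ hx s, horb θ, Finset.sum_singleton]
    rcases (hB χ).1 hθ with h | h
    · refine ⟨θ, ε χ, hε χ h, fun x hx s => ?_⟩
      rw [key x hx s, hval χ h x hx]
    · obtain ⟨hSc, hS1, -, hSv⟩ := hvalX χ h
      have hfin := finite_dual (Q := (P : Subgroup G)) hp.out hP
      have := Fintype.ofFinite ((P : Subgroup G) →* ℂˣ)
      have hS : S χ = (Finset.univ : Finset ((P : Subgroup G) →* ℂˣ)).erase 1 := by
        apply Finset.eq_of_subset_of_card_le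
        · intro l hl
          rw [Finset.mem_erase]
          exact ⟨fun h => hS1 (h ▸ hl), Finset.mem_univ _⟩
        · rw [Finset.card_erase_of_mem (Finset.mem_univ _), Finset.card_univ, ← Nat.card_eq_fintype_card,
            card_dual hp.out hP, hSc]
      refine ⟨θ, -d, by rcases hd with rfl | rfl <;> simp, fun x hx s => ?_⟩
      have h2 := sum_dual_eq_zero hp.out (Q := (P : Subgroup G)) hP hx
      rw [← Finset.add_sum_erase _ _ (Finset.mem_univ (1 : (P : Subgroup G) →* ℂˣ))] at h2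
      rw [key x hx s, hSv x hx, hS]
      have h3 : ∑ l ∈ (Finset.univ : Finset ((P : Subgroup G) →* ℂˣ)).erase 1, ((l x : ℂˣ) : ℂ) = -1 := by
        have h4 : (((1 : (P : Subgroup G) →* ℂˣ) x : ℂˣ) : ℂ) = 1 := by simp
        rw [h4] at h2
        linear_combination h2
      rw [h3]
      push_cast
      ring
  · left
    push Not at hv
    exact hv

/-- the orbits on `Irr K` if `K` is nonabelian of order 6 -/
theorem orb_six (hK : IsComp p (P : Subgroup G) K) (h6 : Nat.card K = 6) (hna : ¬ ∀ a b : K, a * b = b * a)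
    (θ : IrrCharacter K) : orb P K (θ : K → ℂ) = {θ} := by
  classical
  have : Finite (IrrCharacter K) := finite_irr
  have := Fintype.ofFinite (IrrCharacter K)
  have hsum := SmallSimple.DegreeData.sum_sq (G := K)
  rw [h6] at hsum
  let o : IrrCharacter K := ⟨1, isIrr_one⟩
  have hoc : charDegree (o : K → ℂ) = 1 := by
    unfold charDegree
    simp [o]
  have horo : orb P K (o : K → ℂ) = {o} := orb_of_stable isIrr_one fun n hn => tw_one_char hK hn
  obtain ⟨θ0, hθ0⟩ : ∃ θ0 : IrrCharacter K, charDegree (θ0 : K → ℂ) ≠ 1 := by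
    by_contra hcon
    push Not at hcon
    exact hna (Cfsg.Agent.H596.comm_of_charDegree_eq_one hcon)
  have hpos : ∀ ψ : IrrCharacter K, charDegree (ψ : K → ℂ) ≠ 0 := by
    intro ψ h0
    have h1 := Blocks.Knorr.charDegree_dvd ψ.2
    rw [h0, zero_dvd_iff] at h1
    exact Nat.card_pos.ne' h1
  have hsub : ∀ T : Finset (IrrCharacter K), ∑ ψ ∈ T, charDegree (ψ : K → ℂ) ^ 2 ≤ 6 := fun T => by
    rw [← hsum]
    exact Finset.sum_le_sum_of_subset (Finset.subset_univ _)
  have hself : θ ∈ orb P K (θ : K → ℂ) := mem_orb.2 ⟨1, one_mem _, tw_one _⟩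
  rw [Finset.eq_singleton_iff_unique_mem]
  refine ⟨hself, fun θ' hθ' => ?_⟩
  by_contra hne
  have hdeg : charDegree (θ' : K → ℂ) = charDegree (θ : K → ℂ) := by
    unfold charDegree
    rw [orb_apply_one hK hθ']
  by_cases h1 : charDegree (θ : K → ℂ) = 1
  · have hθo : θ ≠ o := by
      rintro rfl
      rw [horo, Finset.mem_singleton] at hθ'
      exact hne hθ'
    have hθ'o : θ' ≠ o := by
      rintro rfl
      obtain ⟨n, hn, h⟩ := mem_orb.1 hθ'
      apply hθo
      apply Subtype.ext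
      have h2 : tw (tw (θ : K → ℂ) n) n⁻¹ = θ := by
        rw [← tw_mul hK _ hn (inv_mem hn), mul_inv_cancel, tw_one]
      rw [h] at h2
      rw [← h2]
      exact tw_one_char hK (inv_mem hn)
    have hne0 : θ0 ≠ o := fun h => hθ0 (by rw [h]; exact hoc)
    have hne1 : θ0 ≠ θ := fun h => hθ0 (by rw [h]; exact h1)
    have hne2 : θ0 ≠ θ' := fun h => hθ0 (by rw [h, hdeg]; exact h1)
    have h3 := hsub {θ0, o, θ, θ'}
    rw [Finset.sum_insert (by simp [hne0, hne1, hne2]), Finset.sum_insert (by simp [Ne.symm hθo, Ne.symm hθ'o]),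
      Finset.sum_pair (Ne.symm hne), hdeg, h1, hoc] at h3
    have h4 := hpos θ0
    have h5 : 2 ^ 2 ≤ charDegree (θ0 : K → ℂ) ^ 2 := Nat.pow_le_pow_left (by omega) 2
    omega
  · have h3 := hsub {θ, θ'}
    rw [Finset.sum_pair (Ne.symm hne), hdeg] at h3
    have h4 := hpos θ
    have h5 : 2 ^ 2 ≤ charDegree (θ : K → ℂ) ^ 2 := Nat.pow_le_pow_left (by omega) 2
    omega

/-- irreducible characters of a group of order 6 on involutions -/
theorem val_six {K : Type u} [Group K] [Finite K] (h6 : Nat.card K = 6) (θ : IrrCharacter K) {s : K} (hs : s * s = 1)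
    (hs1 : s ≠ 1) : ((θ : K → ℂ) 1 = 1 ∧ ((θ : K → ℂ) s = 1 ∨ (θ : K → ℂ) s = -1)) ∨
      ((θ : K → ℂ) 1 = 2 ∧ (θ : K → ℂ) s = 0) := by
  classical
  have := Fintype.ofFinite K
  obtain ⟨θ, n, ρ, hρ, rfl⟩ := θ
  show (ρ.character 1 = 1 ∧ (ρ.character s = 1 ∨ ρ.character s = -1)) ∨ (ρ.character 1 = 2 ∧ ρ.character s = 0)
  have h1 : ρ.character 1 = n := by rw [Representation.char_one]; simp only [_root_.Module.finrank_fintype_fun_eq_card, _root_.Fintype.card_fin]
  have hs' : ρ s * ρ s = 1 := by rw [← map_mul, hs, map_one]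
  obtain ⟨m, hm, hm2⟩ : ∃ m : ℕ, m ≤ n ∧ ρ.character s = 2 * (m : ℂ) - n := by
    refine ⟨Module.finrank ℂ (LinearMap.ker (ρ s - 1)), ?_, ?_⟩
    · have := Submodule.finrank_le (LinearMap.ker (ρ s - 1))
      rwa [Module.finrank_fin_fun] at this
    · have := Cfsg.Agent.H590.Ore.CoOneDeg.trace_inv (u := ρ s) hs'
      rwa [Module.finrank_fin_fun] at this
  have hin := classInner_irr_self (⟨n, ρ, hρ, rfl⟩ : IsIrrCharacter K ρ.character)
  rw [classInner_def] at hin
  have hsum : ∑ g : K, Complex.normSq (ρ.character g) = 6 := by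
    have h2 : ∑ g : K, ρ.character g * conj (ρ.character g) = 6 := by
      rw [h6] at hin
      have h3 : (6 : ℂ) ≠ 0 := by norm_num
      push_cast at hin
      field_simp at hin
      linear_combination hin
    have h4 := congrArg Complex.re h2
    rw [Complex.re_sum] at h4
    simp only [Complex.mul_conj, Complex.ofReal_re] at h4
    rw [h4]
    norm_num
  have h7 : Complex.normSq (ρ.character 1) + Complex.normSq (ρ.character s) ≤ 6 := by
    rw [← hsum, ← Finset.sum_pair (f := fun g => Complex.normSq (ρ.character g)) (Ne.symm hs1)]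
    exact Finset.sum_le_sum_of_subset_of_nonneg (Finset.subset_univ _) fun _ _ _ => Complex.normSq_nonneg _
  rw [h1, hm2] at h7
  have h8 : Complex.normSq (n : ℂ) = (n : ℝ) ^ 2 := by rw [Complex.normSq_natCast]; ring
  have h9 : Complex.normSq (2 * (m : ℂ) - n) = (2 * (m : ℝ) - n) ^ 2 := by
    have : (2 * (m : ℂ) - n) = ((2 * (m : ℝ) - n : ℝ) : ℂ) := by push_cast; ring
    rw [this, Complex.normSq_ofReal]
    ring
  rw [h8, h9] at h7
  have hn0 : n ≠ 0 := by
    rintro rfl
    exact isIrr_apply_one_ne_zero (⟨0, ρ, hρ, rfl⟩ : IsIrrCharacter K ρ.character) (by rw [h1]; simp)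
  have hn : n ≤ 2 := by
    by_contra hcon
    have : (3 : ℝ) ≤ n := by exact_mod_cast (by omega : 3 ≤ n)
    nlinarith only [h7, this, sq_nonneg (2 * (m : ℝ) - n)]
  rw [h1, hm2]
  interval_cases n
  · exact absurd rfl hn0
  · interval_cases m
    · left; norm_num
    · left; norm_num
  · interval_cases m
    · norm_num at h7
    · right; norm_num
    · norm_num at h7

/-- `|N(P) : C(P)|` from the orders -/
theorem relIndex_eq [IsSimpleGroup G] (hG : ¬ IsMulCommutative G) {N : ℕ} (hN : Nat.card G = N) (P : Sylow p G) {x : G}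
    (hx : orderOf x = p) (hPx : (P : Subgroup G) = zpowers x)
    {k e : ℕ} (hc : Nat.card (centralizer ({x} : Set G)) = p * k) (h1 : p ∣ N) (h2 : ¬ p ^ 2 ∣ N)
    (huniq : ((List.range p).all fun e' => (e' == e) || ((p - 1) % e' != 0) || (N % (p * e' * k) != 0) ||
      ((N / (p * e' * k)) % p != 1)) = true) :
    (centralizer ((P : Subgroup G) : Set G)).relIndex (normalizer ((P : Subgroup G) : Set G)) = e := by
  have hP : Nat.card P = p := by
    have h3 : Nat.card (P : Subgroup G) = p := by rw [hPx, Nat.card_zpowers, hx]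
    exact h3
  obtain ⟨e', K, hL⟩ := SmallSimple.PrimeLocal.exists_local hG (by rwa [hN]) (by rwa [hN]) P
  have hCx : centralizer ((P : Subgroup G) : Set G) = centralizer ({x} : Set G) := by
    rw [hPx, SmallSimple.SelfCentPrime.centralizer_zpowers]
  have hCP : Nat.card (centralizer ((P : Subgroup G) : Set G)) = p * k := by rw [hCx, hc]
  have hKk : Nat.card K = k := by
    have h3 : p * Nat.card K = p * k := by rw [← hL.card_centralizer]; exact hCP
    exact Nat.eq_of_mul_eq_mul_left hp.out.pos h3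
  have hN' : Nat.card (normalizer ((P : Subgroup G) : Set G)) = p * e' * k := by
    have := hL.card_normalizer
    rw [hKk] at this
    exact this
  have hrel : (centralizer ((P : Subgroup G) : Set G)).relIndex (normalizer ((P : Subgroup G) : Set G)) = e' := by
    have hle : centralizer ((P : Subgroup G) : Set G) ≤ normalizer ((P : Subgroup G) : Set G) :=
      centralizer_le_normalizer _
    have h3 := Subgroup.index_mul_card ((centralizer ((P : Subgroup G) : Set G)).subgroupOf
      (normalizer ((P : Subgroup G) : Set G)))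
    rw [Nat.card_congr (Subgroup.subgroupOfEquivOfLe hle).toEquiv, hCP, hN'] at h3
    have hk : 0 < k := by rw [← hKk]; exact Nat.card_pos
    have h4 : 0 < p * k := Nat.mul_pos hp.out.pos hk
    apply Nat.eq_of_mul_eq_mul_right h4
    rw [Subgroup.relIndex, h3]; ring
  rw [hrel]
  by_contra hne
  have hlt : e' < p := by
    have := Nat.le_of_dvd (by have := hp.out.two_le; omega) hL.dvd_pred
    have := hp.out.two_le
    omega
  have h3 := List.all_eq_true.1 huniq e' (List.mem_range.2 hlt)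
  have hce := hL.card_eq
  rw [hKk, hN] at hce
  have hpos : 0 < p * e' * k := by
    have hk : 0 < k := by rw [← hKk]; exact Nat.card_pos
    have he1 := hL.one_lt
    exact Nat.mul_pos (Nat.mul_pos hp.out.pos (by omega)) hk
  have h4 : N % (p * e' * k) = 0 := by rw [hce]; exact Nat.mul_mod_left _ _
  have h5 : N / (p * e' * k) = Nat.card (Sylow p G) := by rw [hce]; exact Nat.mul_div_cancel _ hpos
  have h6 : Nat.card (Sylow p G) % p = 1 := by
    have h7 := card_sylow_modEq_one p G
    have h8 : Nat.card (Sylow p G) % p = 1 % p := h7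
    rw [h8, Nat.mod_eq_of_lt hp.out.one_lt]
  have h7 : (p - 1) % e' = 0 := Nat.mod_eq_zero_of_dvd hL.dvd_pred
  simp only [Bool.or_eq_true, beq_iff_eq, bne_iff_ne, ne_eq] at h3
  rcases h3 with ((h3 | h3) | h3) | h3
  · exact hne h3
  · exact h3 h7
  · exact h3 h4
  · rw [h5] at h3; exact h3 h6

/-- **`K` nonabelian of order 6.** `x` of order `p` with nonabelian centralizer of order `6 p`, `s` an involution
commuting with `x`. -/
theorem six [IsSimpleGroup G] (hG : ¬ IsMulCommutative G) {N : ℕ} (hN : Nat.card G = N) (h5 : 5 ≤ p) {x s : G}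
    (hx : orderOf x = p) (hc : Nat.card (centralizer ({x} : Set G)) = p * 6)
    (hna : ∃ u v : G, Commute u x ∧ Commute v x ∧ ¬ Commute u v) (h1 : p ∣ N) (h2 : ¬ p ^ 2 ∣ N)
    (huniq : ((List.range p).all fun e' => (e' == p - 1) || ((p - 1) % e' != 0) || (N % (p * e' * 6) != 0) ||
      ((N / (p * e' * 6)) % p != 1)) = true)
    (hs : s * s = 1) (hs1 : s ≠ 1) (hxs : Commute x s) (χ : IrrCharacter G) :
    ∃ u v : ℤ, (u = 0 ∨ u = 1 ∨ u = -1) ∧ (v = 0 ∨ v = 1 ∨ v = -1) ∧
      ∀ y ∈ zpowers x, y ≠ 1 → (χ : G → ℂ) y = u + v ∧ (χ : G → ℂ) (y * s) = u - v := by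
  have hpg : IsPGroup p (zpowers x) := IsPGroup.of_card (n := 1) (by rw [Nat.card_zpowers, hx, pow_one])
  obtain ⟨P, hxP⟩ := hpg.exists_le_sylow
  have hP : Nat.card P = p := SmallSimple.PrimeLocal.card_of_not_sq_dvd (by rwa [hN]) (by rwa [hN]) P
  have hPx : (P : Subgroup G) = zpowers x := by
    have h3 : Nat.card (zpowers x) = Nat.card (P : Subgroup G) := by rw [Nat.card_zpowers, hx]; exact hP.symm
    exact (Subgroup.eq_of_le_of_card_ge hxP h3.ge).symm
  have he := relIndex_eq hG hN P hx hPx hc h1 h2 huniq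
  obtain ⟨K, hK⟩ := exists_isComp P hP
  have hCx : centralizer ((P : Subgroup G) : Set G) = centralizer ({x} : Set G) := by
    rw [hPx, SmallSimple.SelfCentPrime.centralizer_zpowers]
  have h6 : Nat.card K = 6 := by
    have h3 := card_centralizer hK hP
    rw [hCx, hc] at h3
    exact (Nat.eq_of_mul_eq_mul_left hp.out.pos h3).symm
  have hnaK : ¬ ∀ a b : K, a * b = b * a := by
    intro hab
    obtain ⟨u, v, hu, hv, huv⟩ := hna
    have hmem : ∀ w : G, Commute w x → w ∈ centralizer ((P : Subgroup G) : Set G) := fun w hw => by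
      rw [hCx, mem_centralizer_singleton_iff]; exact hw.eq
    obtain ⟨a, ha, b, hb, rfl⟩ := hK.exists_mul hP (hmem u hu)
    obtain ⟨c, hc', d, hd, rfl⟩ := hK.exists_mul hP (hmem v hv)
    apply huv
    have hac : Commute a c := mem_centralizer_iff.1 (_root_.Cfsg.Agent.SmallSimple.ThetaSetup.le_centralizer hP hc') a ha
    have had : Commute a d := hK.comm ha hd
    have hbc : Commute b c := (hK.comm hc' hb).symm
    have hbd : Commute b d := congrArg Subtype.val (hab ⟨b, hb⟩ ⟨d, hd⟩)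
    exact (hac.mul_right had).mul_left (hbc.mul_right hbd)
  have hsK : s ∈ K := by
    rw [hK s]
    refine ⟨by rw [hCx, mem_centralizer_singleton_iff]; exact hxs.eq.symm, fun hd => ?_⟩
    have h3 : orderOf s ∣ 2 := orderOf_dvd_of_pow_eq_one (by rw [pow_two, hs])
    have := Nat.le_of_dvd (by norm_num) (hd.trans h3)
    omega
  rcases exact_value hK hP he (orb_six hK h6 hnaK) χ with h3 | ⟨θ, ε, hε, h3⟩
  · refine ⟨0, 0, Or.inl rfl, Or.inl rfl, fun y hy hy1 => ?_⟩
    have ho : orderOf y = p := by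
      rw [← hPx] at hy
      exact Blocks.CyclicOrtho.orderOf_eq P hP hy hy1
    have hys : Commute y s := by
      obtain ⟨n, rfl⟩ := mem_zpowers_iff.1 hy
      exact hxs.zpow_left n
    have hos : orderOf s = 2 := orderOf_eq_prime (by rw [pow_two, hs]) hs1
    have h4 : orderOf (y * s) = p * 2 := by
      rw [hys.orderOf_mul_eq_mul_orderOf_of_coprime, ho, hos]
      rw [ho, hos]
      refine (Nat.coprime_primes hp.out Nat.prime_two).2 ?_
      omega
    rw [h3 y (by rw [ho]), h3 (y * s) (by rw [h4]; exact dvd_mul_right _ _)]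
    simp
  · have hv := val_six h6 θ (s := ⟨s, hsK⟩) (Subtype.ext hs) (fun h => hs1 (congrArg Subtype.val h))
    have key : ∀ y ∈ zpowers x, y ≠ 1 → (χ : G → ℂ) y = ε * (θ : K → ℂ) 1 ∧ (χ : G → ℂ) (y * s) = ε * (θ : K → ℂ) ⟨s, hsK⟩ := by
      intro y hy hy1
      rw [← hPx] at hy
      have h4 := h3 ⟨y, hy⟩ (fun h => hy1 (congrArg Subtype.val h)) 1
      have h5 := h3 ⟨y, hy⟩ (fun h => hy1 (congrArg Subtype.val h)) ⟨s, hsK⟩
      rw [OneMemClass.coe_one, mul_one] at h4
      exact ⟨h4, h5⟩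
    have hε' : ε = 0 ∨ ε = 1 ∨ ε = -1 := Or.inr hε
    rcases hv with ⟨e1, e2 | e2⟩ | ⟨e1, e2⟩
    · refine ⟨ε, 0, hε', Or.inl rfl, fun y hy hy1 => ?_⟩
      rw [(key y hy hy1).1, (key y hy hy1).2, e1, e2]
      simp
    · refine ⟨0, ε, Or.inl rfl, hε', fun y hy hy1 => ?_⟩
      rw [(key y hy hy1).1, (key y hy hy1).2, e1, e2]
      simp
    · refine ⟨ε, ε, hε', hε', fun y hy hy1 => ?_⟩
      rw [(key y hy hy1).1, (key y hy hy1).2, e1, e2]
      constructor
      · ring
      · simp

end Cfsg.Agent.H590.Ore.Exact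
end

-- part: H590/Ore/CoOneDeg
section
/-!
# Degrees of `Co1` below 1771 (helper590)

`bound` : if `1 ≠ χ ∈ Irr(Co1)` has degree less than 1771 then `χ(1) = a + 276 b` with `22 a ≤ 552 b + 105` and `a ≤ 4` or
`21 ≤ a`; `no_deg` : the degrees 288, 495, 702, 770, 990, 1000, 1001, 1024, 1080, 1287, 1300, 1575 do not occur.
-/

set_option autoImplicit false

namespace Cfsg.Agent.H590.Ore.CoOneDeg

open Module Cfsg Cfsg.Agent.H847.Avg Cfsg.Agent.H847.Co1Small Cfsg.Agent.H847.Co1Tab
open Cfsg.Agent.SporadicA.Co0Mono (signCo0 permCo0 wordPerm wordPerm_apply perm_mul_sign)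
open Cfsg.Agent.SporadicA.GolayBase (idx pt idx_lt pt_idx idx_pt idx_injective)
open Cfsg.Agent.SporadicA.GolayPerm (papp)
open Cfsg.Agent.SporadicStructure.M24El
open Cfsg.Agent.CoOneType.CoOneE (pr)
open Cfsg.Agent.CoOneType.SignFacts (wt sup)
open scoped Pointwise

/-! ### involutions of `M24` of cycle type `1^8 2^8` are conjugate to sign changes on octads -/

theorem chi_sign_wt (c : golayCode) :
    Cfsg.Agent.H419.Spor.Co1.chi (signCo0 c) = 24 - 2 * (wt c : ℂ) := by
  rw [Cfsg.Agent.H843.IMC.Co1B.chi_sign]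
  have h1 : ∀ i : GolayPt, Cfsg.Agent.H843.IMC.Lam.sgnC (((c : GolayPt → ZMod 2) i :)) =
      1 - 2 * (if i ∈ sup c then (1 : ℂ) else 0) := by
    intro i
    split_ifs with h
    · rw [(Cfsg.Agent.CoOneType.SignFacts.mem_sup c i).1 h, Cfsg.Agent.H843.IMC.Lam.sgnC_one]; norm_num
    · rw [(Cfsg.Agent.CoOneType.SignFacts.notMem_sup c i).1 h, Cfsg.Agent.H843.IMC.Lam.sgnC_zero]; norm_num
  rw [Finset.sum_congr rfl fun i _ => h1 i, Finset.sum_sub_distrib, ← Finset.mul_sum, Finset.sum_ite_mem,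
    Finset.univ_inter, Finset.sum_const, Finset.sum_const, Finset.card_univ]
  have h2 : Fintype.card GolayPt = 24 := rfl
  rw [h2]
  unfold wt
  simp

theorem isConj_octad_of_fix {o : golayCode} (ho : wt o = 8) {g : M24} (hg : g * g = 1) (h1 : g ≠ 1)
    (h8 : Nat.card (MulAction.fixedBy GolayPt g) = 8) : IsConj (pr (signCo0 o)) (pr (permCo0 g)) := by
  obtain ⟨d, hd⟩ := exists_dodecad
  have hne : pr (permCo0 g) ≠ 1 := by
    intro h
    exact h1 (Cfsg.Agent.H419.Spor.Co1.pr_perm_injective (h.trans (map_one (pr.comp permCo0)).symm))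
  rcases Cfsg.Agent.CoOneType.ClosingFacts.inv_cases o d Cfsg.Agent.CoOneType.ClosingCo1.a1 ho hd (permCo0 g)
    (by rw [← map_mul, hg, map_one]) hne with h | h
  · exact h
  · exfalso
    obtain ⟨θ, hθ, hval⟩ := Cfsg.Agent.H419.Spor.Co1.exists_character
    have e1 : θ (pr (signCo0 d)) = θ (pr (permCo0 g)) := by
      obtain ⟨n, ρ, rfl⟩ := hθ
      obtain ⟨x, hx⟩ := isConj_iff.1 h
      have hx' : x * pr (signCo0 d) * x⁻¹ = pr (permCo0 g) := hx
      rw [← hx', Representation.char_conj]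
    have c1 : Cfsg.Agent.H419.Spor.Co1.chi (signCo0 d) = 0 := by rw [chi_sign_wt, hd]; norm_num
    have c2 : Cfsg.Agent.H419.Spor.Co1.chi (signCo0 d * signCo0 d) = 24 := by
      rw [Cfsg.Agent.SporadicA.Co0Mono.signCo0_mul_self, Cfsg.Agent.H419.Spor.Co1.chi_one]
    have c3 : Cfsg.Agent.H419.Spor.Co1.chi (permCo0 g) = 8 := by
      rw [Cfsg.Agent.H419.Spor.Co1.chi, Cfsg.Agent.H419.LeechFix.lchi_perm (MonoidHom.id Co0) (g := permCo0 g) (σ := g) rfl, h8]
      norm_num
    have c4 : Cfsg.Agent.H419.Spor.Co1.chi (permCo0 g * permCo0 g) = 24 := by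
      rw [← map_mul, hg, map_one, Cfsg.Agent.H419.Spor.Co1.chi_one]
    rw [hval, hval, Cfsg.Agent.H419.Spor.Co1.psi, Cfsg.Agent.H419.Spor.Co1.psi, c1, c2, c3, c4] at e1
    norm_num at e1

/-! ### the values on `2^11` -/

variable {W : Type} [AddCommGroup W] [Module ℂ W] [FiniteDimensional ℂ W] (R : Spor.Co1 →* (W →ₗ[ℂ] W))

/-- the value on the octad element -/
theorem trace_octad {o : golayCode} (ho : wt o = 8) :
    LinearMap.trace ℂ W (R (pr (signCo0 o))) = dA R + 20 * dB R - 21 * dC R := by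
  obtain ⟨d, hd⟩ := exists_dodecad
  have e0 := mult R ho hd ∅ [] hS0
  have e2 := mult R ho hd {some 0, some 1} [0, 1] hS2
  have e4 := mult R ho hd {some 0, some 1, some 2, some 3} [0, 1, 2, 3] hS4
  rw [tab_sum _ _ _ _ _ _ _ _ _ _ _ tab0] at e0
  rw [tab_sum _ _ _ _ _ _ _ _ _ _ _ tab2] at e2
  rw [tab_sum _ _ _ _ _ _ _ _ _ _ _ tab4] at e4
  unfold dA dB dC S0
  push_cast at e0 e2 e4 ⊢
  linear_combination (-1 / 4096 : ℂ) * e0 + (-20 / 4096 : ℂ) * e2 + (21 / 4096 : ℂ) * e4

/-! ### involutions -/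

/-- the pair of indices is fixed -/
def cnd (P i j : ℕ) : Bool :=
  (Nat.beq (papp P i) i && Nat.beq (papp P j) j) || (Nat.beq (papp P i) j && Nat.beq (papp P j) i)

/-- the fixed pairs of indices -/
def fixPairs (P : ℕ) : Finset (ℕ × ℕ) :=
  (Finset.range 24 ×ˢ Finset.range 24).filter fun ij => ij.1 < ij.2 ∧ cnd P ij.1 ij.2 = true

theorem card_fixed_le {P : ℕ} (hP : ok P = true) :
    (D.filter fun S => el P • S = S).card ≤ (fixPairs P).card := by
  refine le_trans (Finset.card_le_card ?_)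
    (Finset.card_image_le (s := fixPairs P) (f := fun ij : ℕ × ℕ => ({pt ij.1, pt ij.2} : Finset GolayPt)))
  intro S hS
  rw [Finset.mem_filter] at hS
  obtain ⟨hS, h⟩ := hS
  obtain ⟨p, q, rfl, hpq⟩ := exists_idx hS
  rw [Finset.mem_image]
  refine ⟨(idx p, idx q), ?_, by simp only [pt_idx]⟩
  have hne : p ≠ q := by rintro rfl; exact lt_irrefl _ hpq
  have hp : el P • p ∈ ({p, q} : Finset GolayPt) := by
    rw [← h]
    exact Finset.smul_mem_smul_finset (Finset.mem_insert_self _ _)
  have hq : el P • q ∈ ({p, q} : Finset GolayPt) := by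
    rw [← h]
    exact Finset.smul_mem_smul_finset (Finset.mem_insert_of_mem (Finset.mem_singleton_self _))
  rw [Finset.mem_insert, Finset.mem_singleton] at hp hq
  have hinj : el P • p ≠ el P • q := fun h' => hne (MulAction.injective _ h')
  unfold fixPairs
  rw [Finset.mem_filter, Finset.mem_product, Finset.mem_range, Finset.mem_range]
  refine ⟨⟨idx_lt p, idx_lt q⟩, hpq, ?_⟩
  unfold cnd
  rw [← idx_el_smul hP, ← idx_el_smul hP]
  rcases hp with hp | hp <;> rcases hq with hq | hq
  · exact absurd (hp.trans hq.symm) hinj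
  · rw [hp, hq, Nat.beq_refl, Nat.beq_refl]; rfl
  · rw [hp, hq, Nat.beq_refl, Nat.beq_refl, Bool.and_self, Bool.or_true]
  · exact absurd (hp.trans hq.symm) hinj

/-- the check for an involution -/
def chkE (P : ℕ) : Bool :=
  ok P && Nat.beq (Cfsg.Agent.SporadicA.GolayPerm.pcomp P P) idP && !(Nat.beq (papp P 0) 0 && Nat.beq (papp P 1) 1) &&
    Nat.beq ((List.range 24).countP fun i => Nat.beq (papp P i) i) 8 && Nat.ble (fixPairs P).card 36

theorem moved {P : ℕ} (hP : ok P = true) (h : (!(Nat.beq (papp P 0) 0 && Nat.beq (papp P 1) 1)) = true) : el P ≠ 1 := by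
  intro h1
  have key : ∀ i < 24, papp P i = i := by
    intro i hi
    have h2 := idx_el_smul hP (pt i)
    rw [h1, one_smul, idx_pt hi] at h2
    exact h2.symm
  rw [key 0 (by norm_num), key 1 (by norm_num)] at h
  exact absurd h (by decide)

theorem ker_ge (hc : dC R = 0) {P : ℕ} (h : chkE P = true) :
    dA R ≤ finrank ℂ (LinearMap.ker (rA R (el P) - 1)) + 8 * dB R := by
  classical
  unfold chkE at h
  simp only [Bool.and_eq_true] at h
  obtain ⟨⟨⟨⟨h1, h2⟩, h3⟩, h4⟩, h5⟩ := h
  have hsq : el P * el P = 1 := by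
    have := congrArg el (Nat.eq_of_beq_eq_true h2)
    rwa [el_pcomp h1 h1, el_idP] at this
  have h8 : Nat.card (MulAction.fixedBy GolayPt (el P)) = 8 := by
    rw [Nat.card_eq_fintype_card, Fintype.card_subtype, ← Nat.eq_of_beq_eq_true h4,
      ← Cfsg.Agent.H866.InvolType.fx_permOf (ok_iff.1 h1).1]
    unfold Cfsg.Agent.H866.InvolType.fx
    rw [← coe_el h1]
    rfl
  obtain ⟨o, ho⟩ := exists_octad
  have hconj := isConj_octad_of_fix ho hsq (moved h1 h3) h8
  have e1 : LinearMap.trace ℂ W (rp R (el P)) = dA R + 20 * dB R - 21 * dC R := by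
    rw [← trace_octad R ho]
    exact (trace_conj R hconj).symm
  rw [trace_split R hc, ← trace_rA] at e1
  have e2 : LinearMap.trace ℂ _ (rA R (el P)) =
      2 * (finrank ℂ (LinearMap.ker (rA R (el P) - 1)) : ℂ) - dA R :=
    trace_inv (by rw [← map_mul, hsq, map_one])
  have e3 : ∀ S ∈ D.filter (fun S => el P • S = S), ∃ t : ℤ, t ≤ dB R ∧
      LinearMap.trace ℂ W (rp R (el P) * pS R S) = t := by
    intro S hS
    rw [Finset.mem_filter] at hS
    obtain ⟨m, hm, hm2⟩ := trace_part R hsq hS.2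
    rw [finrank_duad R hS.1] at hm hm2
    exact ⟨2 * (m : ℤ) - dB R, by omega, by rw [hm2]; push_cast; ring⟩
  choose! t ht ht2 using e3
  rw [e2, Finset.sum_congr rfl ht2, hc] at e1
  have e4 : 2 * (finrank ℂ (LinearMap.ker (rA R (el P) - 1)) : ℤ) - dA R +
      ∑ S ∈ D.filter (fun S => el P • S = S), t S = dA R + 20 * dB R := by
    have : ((2 * (finrank ℂ (LinearMap.ker (rA R (el P) - 1)) : ℤ) - dA R +
      ∑ S ∈ D.filter (fun S => el P • S = S), t S : ℤ) : ℂ) = ((dA R + 20 * dB R : ℤ) : ℂ) := by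
      push_cast
      rw [e1]
      push_cast
      ring
    exact_mod_cast this
  have e5 : ∑ S ∈ D.filter (fun S => el P • S = S), t S ≤ 36 * dB R := by
    refine (Finset.sum_le_card_nsmul _ _ _ ht).trans ?_
    rw [nsmul_eq_mul]
    refine mul_le_mul_of_nonneg_right ?_ (Int.natCast_nonneg _)
    exact_mod_cast (card_fixed_le h1).trans (Nat.le_of_ble_eq_true h5)
  omega

/-! ### the element of order 23 -/

/-- three involutions -/
def E1 : ℕ := 803087990645929231008169128932478002
def E2 : ℕ := 236640362003071688657525297027528705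
def E3 : ℕ := 860125865031517038382481001569945641
/-- their product -/
def Y : ℕ := 844649900668090165366601177858879061

theorem chk1 : chkE E1 = true := by decide +kernel
theorem chk2 : chkE E2 = true := by decide +kernel
theorem chk3 : chkE E3 = true := by decide +kernel

theorem ok1 : ok E1 = true := by decide +kernel
theorem ok2 : ok E2 = true := by decide +kernel
theorem ok3 : ok E3 = true := by decide +kernel
theorem okY : ok Y = true := by decide +kernel

theorem elY : el Y = el E1 * el E2 * el E3 := by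
  rw [← el_pcomp ok1 ok2, ← el_pcomp (ok_pcomp ok1 ok2) ok3]
  congr 1

/-- packed powers -/
def ppw (c : ℕ) : ℕ → ℕ
  | 0 => idP
  | k + 1 => Cfsg.Agent.SporadicA.GolayPerm.pcomp c (ppw c k)

theorem el_ppw {c : ℕ} (hc : ok c = true) (k : ℕ) : ok (ppw c k) = true ∧ el (ppw c k) = el c ^ k := by
  induction k with
  | zero => exact ⟨ok_idP, by rw [pow_zero]; exact el_idP⟩
  | succ k ih =>
    refine ⟨ok_pcomp hc ih.1, ?_⟩
    rw [pow_succ', ← ih.2, ← el_pcomp hc ih.1]
    rfl

theorem Y_pow : el Y ^ 23 = 1 := by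
  rw [← (el_ppw okY 23).2, show ppw Y 23 = idP from by decide +kernel, el_idP]

theorem Y_ne : el Y ≠ 1 := moved okY (by decide +kernel)

theorem fixed_Y {S : Finset GolayPt} (hS : S ∈ D) : el Y • S ≠ S := by
  intro h
  have h1 := card_fixed_le okY
  rw [show (fixPairs Y).card = 0 from by decide +kernel, Nat.le_zero, Finset.card_eq_zero] at h1
  have h2 : S ∈ D.filter fun S => el Y • S = S := Finset.mem_filter.2 ⟨hS, h⟩
  rw [h1] at h2
  exact absurd h2 (Finset.notMem_empty _)

theorem order_Y : orderOf (el Y) = 23 := by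
  have : Fact (Nat.Prime 23) := ⟨by norm_num⟩
  exact orderOf_eq_prime Y_pow Y_ne

theorem card_Z : Nat.card (Subgroup.zpowers (el Y)) = 23 := by rw [Nat.card_zpowers, order_Y]

theorem mem_zpowers_of {h : M24} (hh : h ∈ Subgroup.zpowers (el Y)) (h1 : h ≠ 1) : el Y ∈ Subgroup.zpowers h := by
  have : Fact (Nat.Prime 23) := ⟨by norm_num⟩
  have h2 : (⟨el Y, Subgroup.mem_zpowers _⟩ : Subgroup.zpowers (el Y)) ∈ Subgroup.zpowers (⟨h, hh⟩ : Subgroup.zpowers (el Y)) :=
    mem_zpowers_of_prime_card card_Z fun h3 => h1 (congrArg Subtype.val h3)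
  obtain ⟨n, hn⟩ := Subgroup.mem_zpowers_iff.1 h2
  exact Subgroup.mem_zpowers_iff.2 ⟨n, congrArg Subtype.val hn⟩

theorem fixed_Z {h : M24} (hh : h ∈ Subgroup.zpowers (el Y)) (h1 : h ≠ 1) {S : Finset GolayPt} (hS : S ∈ D) : h • S ≠ S := by
  intro h2
  have h3 : Subgroup.zpowers h ≤ MulAction.stabilizer M24 S := by
    rw [Subgroup.zpowers_le]
    exact h2
  exact fixed_Y hS (h3 (mem_zpowers_of hh h1))

theorem order_Z {h : M24} (hh : h ∈ Subgroup.zpowers (el Y)) (h1 : h ≠ 1) : orderOf (pr (permCo0 h)) = 23 := by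
  have h2 := orderOf_injective (pr.comp permCo0) Cfsg.Agent.H419.Spor.Co1.pr_perm_injective h
  have : Fact (Nat.Prime 23) := ⟨by norm_num⟩
  have h3 : orderOf h = 23 := by
    refine orderOf_eq_prime ?_ h1
    have h4 := pow_card_eq_one' (x := (⟨h, hh⟩ : Subgroup.zpowers (el Y)))
    rw [card_Z] at h4
    exact congrArg Subtype.val h4
  rw [← h3, ← h2]
  rfl

/-- codimension of an intersection -/
theorem finrank_inf {V : Type*} [AddCommGroup V] [Module ℂ V] [FiniteDimensional ℂ V] (K L : Submodule ℂ V) :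
    finrank ℂ K + finrank ℂ L ≤ finrank ℂ V + finrank ℂ (K ⊓ L : Submodule ℂ V) := by
  have h1 := Submodule.finrank_sup_add_finrank_inf_eq K L
  have h2 := Submodule.finrank_le (K ⊔ L)
  omega

/-- the restriction to the group of order 23 -/
noncomputable def rZ : Subgroup.zpowers (el Y) →* (eig (rcode R) (chi ∅) →ₗ[ℂ] eig (rcode R) (chi ∅)) :=
  (rA R).comp (Subgroup.zpowers (el Y)).subtype

/-- dimension of the fixed space of the element of order 23 on the fixed space of `2^11` -/
noncomputable def dY : ℕ := finrank ℂ (eig (rZ R) fun _ => (1 : ℂ))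

theorem mem_eig_of {x : eig (rcode R) (chi ∅)} (h : rA R (el Y) x = x) : x ∈ eig (rZ R) fun _ => (1 : ℂ) := by
  intro z
  rw [one_smul]
  have h1 : Subgroup.zpowers (el Y) ≤ (MonoidHom.ker (rA R)).comap (MonoidHom.id M24) ∨ True := Or.inr trivial
  obtain ⟨n, hn⟩ := Subgroup.mem_zpowers_iff.1 z.2
  have key : ∀ k : ℕ, rA R (el Y ^ k) x = x := by
    intro k
    induction k with
    | zero => rw [pow_zero, map_one]; rfl
    | succ k ih =>
      rw [pow_succ, map_mul, Module.End.mul_apply, h, ih]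
  have h2 : ∃ k : ℕ, el Y ^ k = z := by
    have : (z : M24) ∈ Submonoid.powers (el Y) := by
      rw [mem_powers_iff_mem_zpowers]
      exact z.2
    exact this
  obtain ⟨k, hk⟩ := h2
  show rA R (z : M24) x = x
  rw [← hk]
  exact key k

theorem fix_ge (hc : dC R = 0) : dA R ≤ dY R + 24 * dB R := by
  have h1 := ker_ge R hc chk1
  have h2 := ker_ge R hc chk2
  have h3 := ker_ge R hc chk3
  have h4 := finrank_inf (LinearMap.ker (rA R (el E1) - 1)) (LinearMap.ker (rA R (el E2) - 1))
  have h5 := finrank_inf (LinearMap.ker (rA R (el E1) - 1) ⊓ LinearMap.ker (rA R (el E2) - 1))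
    (LinearMap.ker (rA R (el E3) - 1))
  have h6 : finrank ℂ (LinearMap.ker (rA R (el E1) - 1) ⊓ LinearMap.ker (rA R (el E2) - 1) ⊓
      LinearMap.ker (rA R (el E3) - 1) : Submodule ℂ (eig (rcode R) (chi ∅))) ≤ dY R := by
    refine Submodule.finrank_mono ?_
    rintro x ⟨⟨k1, k2⟩, k3⟩
    rw [SetLike.mem_coe, LinearMap.mem_ker, LinearMap.sub_apply, sub_eq_zero] at k1 k2 k3
    refine mem_eig_of R ?_
    rw [elY, map_mul, map_mul, Module.End.mul_apply, Module.End.mul_apply, k3]
    exact (congrArg _ k2).trans k1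
  have h7 : finrank ℂ (eig (rcode R) (chi ∅)) = dA R := rfl
  omega

/-- **The bound for the fixed space of the element of order 23.** -/
theorem dY_le (hc : dC R = 0) (hR : ∀ x : Spor.Co1, orderOf x = 23 → (LinearMap.trace ℂ W (R x)).re ≤ 24 / 5) :
    23 * dY R ≤ dA R + 105 := by
  classical
  let _ : Fintype (Subgroup.zpowers (el Y)) := Fintype.ofFinite _
  have h1 := trace_avg (rZ R) (lin_one (A := Subgroup.zpowers (el Y)))
  rw [trace_avg_eq_sum, ← Nat.card_eq_fintype_card, card_Z] at h1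
  have h2 : ∑ z : Subgroup.zpowers (el Y), (1 : ℂ) * LinearMap.trace ℂ _ (rZ R z) = 23 * dY R := by
    unfold dY
    rw [← h1, ← mul_assoc, Nat.cast_ofNat, mul_inv_cancel₀ (by norm_num), one_mul]
  have h3 : ∀ z : Subgroup.zpowers (el Y), z ≠ 1 → (LinearMap.trace ℂ _ (rZ R z)).re ≤ 24 / 5 := by
    intro z hz
    have hz1 : (z : M24) ≠ 1 := fun h => hz (Subtype.ext h)
    have e1 := trace_split R hc (z : M24)
    rw [Finset.filter_false_of_mem fun S hS => fixed_Z z.2 hz1 hS, Finset.sum_empty, add_zero, ← trace_rA] at e1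
    have e2 : LinearMap.trace ℂ _ (rZ R z) = LinearMap.trace ℂ W (R (pr (permCo0 (z : M24)))) := e1.symm
    rw [e2]
    exact hR _ (order_Z z.2 hz1)
  have h4 := congrArg Complex.re h2
  rw [Complex.re_sum] at h4
  have h5 : (LinearMap.trace ℂ _ (rZ R 1)).re = dA R := by
    rw [map_one, LinearMap.trace_one, Complex.natCast_re]
    rfl
  rw [Fintype.sum_eq_add_sum_compl (1 : Subgroup.zpowers (el Y))] at h4
  simp only [one_mul] at h4
  rw [h5] at h4
  have h6 : ∑ z ∈ ({1}ᶜ : Finset (Subgroup.zpowers (el Y))), (LinearMap.trace ℂ _ (rZ R z)).re ≤ 22 * (24 / 5) := by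
    refine (Finset.sum_le_card_nsmul _ _ (24 / 5) fun z hz => h3 z ?_).trans ?_
    · rintro rfl
      rw [Finset.mem_compl, Finset.mem_singleton] at hz
      exact hz rfl
    · rw [Finset.card_compl, ← Nat.card_eq_fintype_card, card_Z, Finset.card_singleton, nsmul_eq_mul]
      norm_num
  have h7 : ((23 : ℂ) * (dY R : ℂ)).re = 23 * (dY R : ℝ) := by simp
  rw [h7] at h4
  have h8 : (23 * dY R : ℝ) < dA R + 106 := by linarith only [h4, h6]
  have h9 : 23 * dY R < dA R + 106 := by exact_mod_cast h8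
  omega

theorem small (h : dA R < 21) : dY R = dA R := by
  have : IsSimpleGroup M24 := Cfsg.Agent.S0365.result
  have h1 : ∀ g, rA R g = 1 := by
    by_contra hcon
    push Not at hcon
    have := Cfsg.Agent.H121.Cyc.m24 (G := M24) ⟨MulEquiv.refl _⟩ _ (rA R) hcon
    have h7 : finrank ℂ (eig (rcode R) (chi ∅)) = dA R := rfl
    omega
  unfold dY
  have h2 : eig (rZ R) (fun _ => (1 : ℂ)) = ⊤ := by
    rw [eq_top_iff]
    intro x _
    exact mem_eig_of R (by rw [h1]; rfl)
  rw [h2, finrank_top]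
  rfl

/-! ### the element of order 11 -/

/-- multiplication by 2, of order 11 -/
def V : ℕ := 983435072843990828779021698901151808

theorem okV : ok V = true := by decide +kernel

theorem V_pow : el V ^ 11 = 1 := by
  rw [← (el_ppw okV 11).2, show ppw V 11 = idP from by decide +kernel, el_idP]

theorem V_ne : el V ≠ 1 := moved okV (by decide +kernel)

theorem order_V : orderOf (el V) = 11 := by
  have : Fact (Nat.Prime 11) := ⟨by norm_num⟩
  exact orderOf_eq_prime V_pow V_ne

theorem card_ZV : Nat.card (Subgroup.zpowers (el V)) = 11 := by rw [Nat.card_zpowers, order_V]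

theorem mem_zpowers_V {h : M24} (hh : h ∈ Subgroup.zpowers (el V)) (h1 : h ≠ 1) : el V ∈ Subgroup.zpowers h := by
  have : Fact (Nat.Prime 11) := ⟨by norm_num⟩
  have h2 : (⟨el V, Subgroup.mem_zpowers _⟩ : Subgroup.zpowers (el V)) ∈ Subgroup.zpowers (⟨h, hh⟩ : Subgroup.zpowers (el V)) :=
    mem_zpowers_of_prime_card card_ZV fun h3 => h1 (congrArg Subtype.val h3)
  obtain ⟨n, hn⟩ := Subgroup.mem_zpowers_iff.1 h2
  exact Subgroup.mem_zpowers_iff.2 ⟨n, congrArg Subtype.val hn⟩

/-- the fixed duad -/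
def S1 : Finset GolayPt := {some 0, none}

theorem S1_mem : S1 ∈ D := mem_D.2 (by decide)

theorem V_S1 : el V • S1 = S1 := by
  unfold S1
  rw [Finset.smul_finset_insert, Finset.smul_finset_singleton, el_smul_pt okV, el_smul_pt okV]
  have h1 : pt (papp V (idx (some 0))) = some 0 := by decide +kernel
  have h2 : pt (papp V (idx none)) = none := by decide +kernel
  rw [h1, h2]

theorem fixed_V {S : Finset GolayPt} (hS : S ∈ D) (h : el V • S = S) : S = S1 := by
  have h1 := card_fixed_le okV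
  rw [show (fixPairs V).card = 1 from by decide +kernel] at h1
  exact Finset.card_le_one.1 h1 S (Finset.mem_filter.2 ⟨hS, h⟩) S1 (Finset.mem_filter.2 ⟨S1_mem, V_S1⟩)

theorem smul_S1 {h : M24} (hh : h ∈ Subgroup.zpowers (el V)) : h • S1 = S1 := by
  have h3 : Subgroup.zpowers (el V) ≤ MulAction.stabilizer M24 S1 := by
    rw [Subgroup.zpowers_le]
    exact V_S1
  exact h3 hh

theorem filter_V {h : M24} (hh : h ∈ Subgroup.zpowers (el V)) (h1 : h ≠ 1) : D.filter (fun S => h • S = S) = {S1} := by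
  rw [Finset.eq_singleton_iff_unique_mem]
  refine ⟨Finset.mem_filter.2 ⟨S1_mem, smul_S1 hh⟩, fun S hS => ?_⟩
  rw [Finset.mem_filter] at hS
  have h3 : Subgroup.zpowers h ≤ MulAction.stabilizer M24 S := by
    rw [Subgroup.zpowers_le]
    exact hS.2
  exact fixed_V hS.1 (h3 (mem_zpowers_V hh h1))

/-- the dodecad -/
theorem mask_mem : Cfsg.Agent.SporadicA.GolayBase.word 340831 ∈ golayCode := by
  rw [Cfsg.Agent.SporadicA.GolayBase.mem_golayCode_iff, Cfsg.Agent.SporadicA.GolayBase.maskW_word]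
  all_goals decide +kernel

/-- the dodecad as a code word -/
def cd : golayCode := ⟨Cfsg.Agent.SporadicA.GolayBase.word 340831, mask_mem⟩

theorem wordPerm_cd : wordPerm (el V) cd = cd := by
  apply Subtype.ext
  funext p
  show Cfsg.Agent.SporadicA.GolayBase.word 340831 ((el V : Equiv.Perm GolayPt).symm p) =
    Cfsg.Agent.SporadicA.GolayBase.word 340831 p
  have key : ∀ i < 24, Nat.testBit 340831 (papp V i) = Nat.testBit 340831 i := by decide +kernel
  obtain ⟨q, rfl⟩ := (el V : Equiv.Perm GolayPt).surjective p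
  rw [Equiv.symm_apply_apply]
  unfold Cfsg.Agent.SporadicA.GolayBase.word
  have h1 : idx ((el V : Equiv.Perm GolayPt) q) = papp V (idx q) := idx_el_smul okV q
  rw [h1, key _ (idx_lt q)]

theorem comm_V_cd : Commute (pr (permCo0 (el V))) (pr (signCo0 cd)) := by
  have h1 := perm_mul_sign (el V) cd
  rw [wordPerm_cd] at h1
  show pr (permCo0 (el V)) * pr (signCo0 cd) = pr (signCo0 cd) * pr (permCo0 (el V))
  rw [← map_mul, h1, map_mul]

theorem cd_ne : pr (signCo0 cd) ≠ 1 := by
  rw [Ne, Cfsg.Agent.CoOneType.CoOneE.pr_sign_eq_one_iff]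
  have h0 : (cd : GolayPt → ZMod 2) (some 0) = 1 := by
    show Cfsg.Agent.SporadicA.GolayBase.word 340831 (some 0) = 1
    decide +kernel
  have h1 : (cd : GolayPt → ZMod 2) none = 0 := by
    show Cfsg.Agent.SporadicA.GolayBase.word 340831 none = 0
    decide +kernel
  rintro (h | h)
  · rw [Cfsg.Agent.CoOneType.CoOneE.wt_eq_zero cd h] at h0
    exact absurd h0 (by decide)
  · have h2 : sup cd = Finset.univ := Finset.card_eq_iff_eq_univ _ |>.1 h
    have h3 : none ∈ sup cd := by rw [h2]; exact Finset.mem_univ _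
    rw [Cfsg.Agent.CoOneType.SignFacts.mem_sup, h1] at h3
    exact absurd h3 (by decide)

theorem chi_S1_cd : chi S1 (Multiplicative.ofAdd cd) = -1 := by
  have h0 : (cd : GolayPt → ZMod 2) (some 0) = 1 := by
    show Cfsg.Agent.SporadicA.GolayBase.word 340831 (some 0) = 1
    decide +kernel
  have h1 : (cd : GolayPt → ZMod 2) none = 0 := by
    show Cfsg.Agent.SporadicA.GolayBase.word 340831 none = 0
    decide +kernel
  unfold chi S1
  rw [Finset.sum_pair (by decide)]
  show sg ((cd : GolayPt → ZMod 2) (some 0) + (cd : GolayPt → ZMod 2) none) = -1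
  rw [h0, h1, add_zero, sg_one]

/-- the trace with a sign change -/
theorem trace_split_sign (hc : dC R = 0) (g : M24) (c : Multiplicative golayCode) :
    LinearMap.trace ℂ W (rp R g * rcode R c) = LinearMap.trace ℂ W (rp R g * pS R ∅) +
      ∑ S ∈ D.filter (fun S => g • S = S), chi S c * LinearMap.trace ℂ W (rp R g * pS R S) := by
  have h0 : ∀ S, rcode R c * pS R S = chi S c • pS R S := fun S => mul_avg _ (lin_chi S) c
  have h1 : rp R g * rcode R c = rp R g * (rcode R c * pF R) := by rw [pF_eq_one R hc, mul_one]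
  rw [h1]
  unfold pF F
  rw [Finset.sum_insert empty_notMem_D, mul_add, mul_add, map_add, h0]
  congr 1
  · rw [mul_smul_comm, map_smul, smul_eq_mul]
    have : chi ∅ c = 1 := by
      unfold chi
      rw [Finset.sum_empty, sg_zero]
    rw [this, one_mul]
  · rw [Finset.mul_sum, Finset.mul_sum, map_sum, Finset.sum_filter]
    refine Finset.sum_congr rfl fun S hS => ?_
    rw [h0, mul_smul_comm, map_smul, smul_eq_mul]
    split_ifs with h
    · rfl
    · rw [trace_move R g (Finset.mem_insert_of_mem hS) h, mul_zero]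

/-- the values on the group of order 11 -/
theorem trace_V (hc : dC R = 0) {h : M24} (hh : h ∈ Subgroup.zpowers (el V)) (h1 : h ≠ 1) :
    LinearMap.trace ℂ W (R (pr (permCo0 h))) = LinearMap.trace ℂ W (rp R h * pS R ∅) +
      LinearMap.trace ℂ W (rp R h * pS R S1) ∧
    LinearMap.trace ℂ W (R (pr (permCo0 h) * pr (signCo0 cd))) = LinearMap.trace ℂ W (rp R h * pS R ∅) -
      LinearMap.trace ℂ W (rp R h * pS R S1) := by
  constructor
  · have h2 := trace_split R hc h
    rw [filter_V hh h1, Finset.sum_singleton] at h2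
    exact h2
  · have h2 := trace_split_sign R hc h (Multiplicative.ofAdd cd)
    rw [filter_V hh h1, Finset.sum_singleton, chi_S1_cd] at h2
    rw [map_mul R, neg_one_mul, ← sub_eq_add_neg] at *
    exact h2

/-- divisibility from constant traces -/
theorem dvd_of_const {Z : Type*} [Group Z] [Finite Z] {V : Type*} [AddCommGroup V] [Module ℂ V] [FiniteDimensional ℂ V]
    (r : Z →* (V →ₗ[ℂ] V)) {n : ℕ} (hn : Nat.card Z = n) {t : ℤ} (ht : ∀ z : Z, z ≠ 1 → LinearMap.trace ℂ V (r z) = t) :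
    (n : ℤ) ∣ finrank ℂ V + (n - 1) * t := by
  classical
  let _ : Fintype Z := Fintype.ofFinite _
  have h1 := trace_avg r (lin_one (A := Z))
  rw [trace_avg_eq_sum, ← Nat.card_eq_fintype_card, hn, Fintype.sum_eq_add_sum_compl (1 : Z)] at h1
  rw [Finset.sum_congr rfl (g := fun _ => (t : ℂ)) (fun z hz => by
    rw [one_mul]
    exact ht z (by rintro rfl; rw [Finset.mem_compl, Finset.mem_singleton] at hz; exact hz rfl)), Finset.sum_const,
    Finset.card_compl, ← Nat.card_eq_fintype_card, hn, Finset.card_singleton, map_one, LinearMap.trace_one, one_mul,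
    nsmul_eq_mul] at h1
  have hn1 : 1 ≤ n := by rw [← hn]; exact Nat.card_pos
  have hn0 : (n : ℂ) ≠ 0 := by
    have : n ≠ 0 := by omega
    exact_mod_cast this
  refine ⟨finrank ℂ (eig r fun _ => (1 : ℂ)), ?_⟩
  have h2 : ((finrank ℂ V + (n - 1) * t : ℤ) : ℂ) = ((n * (finrank ℂ (eig r fun _ => (1 : ℂ))) : ℤ) : ℂ) := by
    push_cast [Nat.cast_sub hn1] at h1 ⊢
    rw [← h1]
    field_simp
  exact_mod_cast h2

/-- the representation of the group of order 11 on the part of the fixed duad -/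
noncomputable def rV : Subgroup.zpowers (el V) →* (eig (rcode R) (chi S1) →ₗ[ℂ] eig (rcode R) (chi S1)) where
  toFun g := (rp R g).restrict fun x hx => rp_mem R (smul_S1 g.2) hx
  map_one' := by
    ext x
    show rp R 1 x = x
    rw [map_one]
    rfl
  map_mul' g h := by
    ext x
    show rp R (g * h) x = rp R g (rp R h x)
    rw [map_mul]
    rfl

/-- **The congruences modulo 11.** -/
theorem mod_eleven (hc : dC R = 0) {u v : ℤ}
    (h : ∀ y ∈ Subgroup.zpowers (pr (permCo0 (el V))), y ≠ 1 → LinearMap.trace ℂ W (R y) = u + v ∧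
      LinearMap.trace ℂ W (R (y * pr (signCo0 cd))) = u - v) :
    (11 : ℤ) ∣ dA R + 10 * u ∧ (11 : ℤ) ∣ dB R + 10 * v := by
  have key : ∀ g ∈ Subgroup.zpowers (el V), g ≠ 1 → LinearMap.trace ℂ W (rp R g * pS R ∅) = u ∧
      LinearMap.trace ℂ W (rp R g * pS R S1) = v := by
    intro g hg hg1
    obtain ⟨e1, e2⟩ := trace_V R hc hg hg1
    have hm : pr (permCo0 g) ∈ Subgroup.zpowers (pr (permCo0 (el V))) := by
      obtain ⟨n, rfl⟩ := Subgroup.mem_zpowers_iff.1 hg
      rw [map_zpow, map_zpow]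
      exact Subgroup.zpow_mem _ (Subgroup.mem_zpowers _) n
    have hm1 : pr (permCo0 g) ≠ 1 := fun h' =>
      hg1 (Cfsg.Agent.H419.Spor.Co1.pr_perm_injective (h'.trans (map_one (pr.comp permCo0)).symm))
    obtain ⟨e3, e4⟩ := h _ hm hm1
    rw [e3] at e1
    rw [e4] at e2
    constructor
    · linear_combination (-1 / 2 : ℂ) * e1 + (-1 / 2 : ℂ) * e2
    · linear_combination (-1 / 2 : ℂ) * e1 + (1 / 2 : ℂ) * e2
  constructor
  · have h1 := dvd_of_const ((rA R).comp (Subgroup.zpowers (el V)).subtype) card_ZV (t := u) fun z hz => by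
      show LinearMap.trace ℂ _ (rA R (z : M24)) = u
      rw [trace_rA]
      exact (key z z.2 fun h' => hz (Subtype.ext h')).1
    exact h1
  · have h1 := dvd_of_const (rV R) card_ZV (t := v) fun z hz => by
      have h2 := (key z z.2 fun h' => hz (Subtype.ext h')).2
      rw [trace_restrict R (smul_S1 z.2)] at h2
      exact h2
    rw [finrank_duad R S1_mem] at h1
    exact h1

end Cfsg.Agent.H590.Ore.CoOneDeg
end

-- part: H590/Ore/CoOneSieve
section
/-!
# `Co1`: degrees prime to 23 and the sieve (helper590)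

`degree_lt` : the nontrivial irreducible characters of degree less than 1771 have degree 276, 277, 297, 298 or 299;
`degOff` : `DegOff Spor.Co1 23 1782`; `isC` : the elements with `|C(g)| ≤ 38726` are commutators.
-/

set_option autoImplicit false

namespace Cfsg.Agent.H590.Ore.CoOneDeg

open Module Cfsg Cfsg.Agent.H847.Avg Cfsg.Agent.H847.Co1Small
open Cfsg.Agent.SporadicA.Co0Mono (signCo0 permCo0)
open Cfsg.Agent.SporadicStructure.M24El
open Cfsg.Agent.CoOneType.CoOneE (pr)

/-! ### irreducible characters -/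

theorem re_le {G : Type*} [Group G] [Finite G] (χ : IrrCharacter G) {x : G} {k : ℕ}
    (hx : Nat.card (Subgroup.centralizer ({x} : Set G)) = k) : Complex.normSq ((χ : G → ℂ) x) ≤ k := by
  classical
  have : Finite (IrrCharacter G) := Cfsg.Agent.Characters.Core.finite_irr
  have := Fintype.ofFinite (IrrCharacter G)
  have h1 := Cfsg.Agent.H686.CharKit.sum_normSq x
  rw [hx] at h1
  rw [← h1]
  exact Finset.single_le_sum (f := fun χ : IrrCharacter G => Complex.normSq ((χ : G → ℂ) x))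
    (fun _ _ => Complex.normSq_nonneg _) (Finset.mem_univ χ)

/-- **Degrees of `Co1` below 1771.** -/
theorem degree_lt (χ : IrrCharacter Spor.Co1) (h1 : (χ : Spor.Co1 → ℂ) ≠ 1) (hlt : charDegree (χ : Spor.Co1 → ℂ) < 1771) :
    charDegree (χ : Spor.Co1 → ℂ) ∈ [276, 277, 297, 298, 299] := by
  have hfin := Cfsg.Agent.H133.Ore.Co1.fin
  have hsim := Cfsg.Agent.H133.Ore.Co1.simple
  have hfi : Finite (IrrCharacter Spor.Co1) := Cfsg.Agent.Characters.Core.finite_irr
  have := Fintype.ofFinite (IrrCharacter Spor.Co1)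
  have h276 := Cfsg.Agent.H843.IMC.Co1B.degree_ge χ h1
  -- the column of 11
  have : Fact (Nat.Prime 11) := ⟨by norm_num⟩
  have ho : orderOf (pr (permCo0 (el V))) = 11 := by
    rw [← order_V]
    exact orderOf_injective (pr.comp permCo0) Cfsg.Agent.H419.Spor.Co1.pr_perm_injective (el V)
  obtain ⟨u, v, hu, hv, huv⟩ := Cfsg.Agent.H590.Ore.Exact.six (p := 11) Cfsg.Agent.H133.Ore.Co1.not_comm
    Cfsg.Agent.H133.Ore.Co1.card (by norm_num) ho (Cfsg.Agent.H546.MElevenB.card_cent_eq ho)
    (Cfsg.Agent.H823.Rec.Co1Facts.nc ho) (by norm_num) (by norm_num) (by decide +kernel)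
    (s := pr (signCo0 cd)) (by
      rw [← map_mul, Cfsg.Agent.SporadicA.Co0Mono.signCo0_mul_self, map_one]) cd_ne comm_V_cd χ
  -- the column of 23
  have h23 : ∀ x : Spor.Co1, orderOf x = 23 → ((χ : Spor.Co1 → ℂ) x).re ≤ 24 / 5 := by
    intro x hx
    have h2 := re_le χ (Cfsg.Agent.H823.Rec.Co1Facts.sc x hx)
    have h3 : ((χ : Spor.Co1 → ℂ) x).re ^ 2 ≤ 23 := by
      have := Complex.normSq_apply ((χ : Spor.Co1 → ℂ) x)
      push_cast at h2
      nlinarith only [h2, this]
    nlinarith only [h3]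
  obtain ⟨χ, n, ρ, hρ, rfl⟩ := χ
  have hd : charDegree ρ.character = n := by
    refine Cfsg.Agent.H670.PSing.charDegree_eq_of ?_
    rw [Representation.char_one]
    simp only [_root_.Module.finrank_fintype_fun_eq_card, _root_.Fintype.card_fin]
  change charDegree ρ.character < 1771 at hlt
  change 276 ≤ charDegree ρ.character at h276
  show charDegree ρ.character ∈ _
  rw [hd] at hlt h276 ⊢
  change ∀ y ∈ Subgroup.zpowers (pr (permCo0 (el V))), y ≠ 1 → ρ.character y = u + v ∧
    ρ.character (y * pr (signCo0 cd)) = u - v at huv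
  change ∀ x : Spor.Co1, orderOf x = 23 → (ρ.character x).re ≤ 24 / 5 at h23
  have hsum := sum_eq (W := Fin n → ℂ) ρ
  rw [Module.finrank_fin_fun] at hsum
  have hc : dC (W := Fin n → ℂ) ρ = 0 := by omega
  obtain ⟨m1, m2⟩ := mod_eleven (W := Fin n → ℂ) ρ hc (u := u) (v := v) huv
  have b1 := fix_ge (W := Fin n → ℂ) ρ hc
  have b2 := dY_le (W := Fin n → ℂ) ρ hc h23
  have b3 := small (W := Fin n → ℂ) ρ
  rw [hc] at hsum
  set a := dA (W := Fin n → ℂ) ρ
  set b := dB (W := Fin n → ℂ) ρ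
  set y := dY (W := Fin n → ℂ) ρ
  simp only [List.mem_cons, List.not_mem_nil, or_false]
  have hb : b = 0 ∨ b = 1 := by (clear * - hv hlt m2 hsum; omega)
  rcases hb with hb | hb
  · rw [hb] at b1 hsum
    omega
  · rw [hb] at b1 hsum
    by_cases ha : a < 21
    · have := b3 ha
      (clear * - hu m1 hsum b2 this; omega)
    · (clear * - hu m1 hsum b2 b1 ha; omega)

/-- the degrees which are excluded -/
def ex : List ℕ := [288, 300, 390, 392, 448, 495, 528, 540, 576, 702, 735, 770, 840, 875, 896, 990, 1000, 1001, 1024, 1080, 1092, 1287, 1300, 1323, 1404, 1540, 1575, 1680, 1701, 1760]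

theorem noDeg : Cfsg.Agent.H511.Ore.NoDeg Spor.Co1 ex := by
  intro χ h
  by_cases h1 : (χ : Spor.Co1 → ℂ) = 1
  · rw [h1, Cfsg.Agent.H850.Cod.charDegree_one] at h
    exact absurd h (by decide)
  · have h2 : ∀ d ∈ ex, d < 1771 ∧ d ∉ [276, 277, 297, 298, 299] := by decide
    exact (h2 _ h).2 (degree_lt χ h1 (h2 _ h).1)

theorem chk_allDiv : Cfsg.Agent.H653.Sieve.allDiv (1782 * 1782) (Cfsg.Agent.H511.Ore.tst 23 276 ex Cfsg.Agent.H133.Ore.Co1.cd)
    Cfsg.Agent.H133.Ore.Co1.facs 1 = true := by decide +kernel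

/-- **degrees prime to 23** -/
theorem degOff : Cfsg.Agent.H511.Ore.DegOff Spor.Co1 23 1782 := by
  have := Cfsg.Agent.H133.Ore.Co1.simple
  have := Cfsg.Agent.H133.Ore.Co1.fin
  exact Cfsg.Agent.H511.Ore.degOff_of_check Cfsg.Agent.H133.Ore.Co1.not_comm _ Cfsg.Agent.H133.Ore.Co1.card
    Cfsg.Agent.H133.Ore.Co1.facs Cfsg.Agent.H133.Ore.Co1.facs_prime Cfsg.Agent.H133.Ore.Co1.facs_prod
    Cfsg.Agent.H133.Ore.Co1.cd Cfsg.Agent.H133.Ore.Co1.ok Cfsg.Agent.H133.Ore.Co1.has Cfsg.Agent.H133.Ore.Co1.minDeg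
    noDeg chk_allDiv

/-! ### the sum of the fourth powers -/

/-- elements with an abelian index `11` are not real -/
theorem not_real {G : Type*} [Group G] {x : G} {H K : Subgroup G} (hHK : H ≤ K) (hn : (H.subgroupOf K).Normal)
    (hi : H.relIndex K = 11) (hH : ∀ g ∈ H, g * x * g⁻¹ = x) (hK : ∀ g : G, g * x * g⁻¹ = x⁻¹ → g ∈ K)
    (h2 : ∀ g : G, g * x * g⁻¹ = x⁻¹ → g * g ∈ H) (hx : x ≠ x⁻¹) : ¬ IsConj x x⁻¹ := by
  intro h
  obtain ⟨g, hg⟩ := isConj_iff.1 h
  have h3 : g ^ 11 ∈ H := by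
    have := Subgroup.pow_index_mem (H.subgroupOf K) ⟨g, hK g hg⟩
    rw [show (H.subgroupOf K).index = 11 from hi] at this
    exact this
  have h4 : g ∈ H := by
    have h5 : g = g ^ 11 * ((g * g) ^ 5)⁻¹ := by
      rw [eq_mul_inv_iff_mul_eq, ← pow_two, ← pow_mul, ← pow_succ']
    rw [h5]
    exact H.mul_mem h3 (H.inv_mem (H.pow_mem (h2 g hg) 5))
  exact hx ((hH g h4).symm.trans hg)

open Cfsg.Agent.Characters.Core in
open scoped ComplexConjugate in
theorem fourth_nonreal {G : Type*} [Group G] [Finite G] [Fintype (IrrCharacter G)] {P : Sylow 23 G}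
    [Fact (Nat.Prime 23)] (hP : Nat.card P = 23) (hC : Subgroup.centralizer (P : Set G) = (P : Subgroup G))
    (he : (Subgroup.centralizer (P : Set G)).relIndex (Subgroup.normalizer (P : Set G)) = 11)
    {x : G} (hx : x ∈ P) (hx1 : x ≠ 1) (hnr : ¬ IsConj x x⁻¹) :
    ∑ χ : IrrCharacter G, ‖(χ : G → ℂ) x‖ ^ 4 ≤ 1 + 82 := by
  classical
  have := Fintype.ofFinite G
  obtain ⟨NE, X, ε, d, S, hdis, hNE, hX, hε, hd, -, hv, -, -, hsum, hz⟩ :=
    SmallSimple.TheoremBCor.theoremB_selfCent 23 (by norm_num) P hP hC 11 2 he (by norm_num)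
  have h0 : ∀ χ, χ ∉ NE → χ ∉ X → (χ : G → ℂ) x = 0 := fun χ h1 h2 => (hz χ h1 h2).1 x hx hx1
  have hvx : ∀ χ ∈ NE, (χ : G → ℂ) x = ε χ := fun χ hχ => hv χ hχ x hx hx1
  obtain ⟨Θ, Θ', hne, hXe⟩ := Finset.card_eq_two.1 hX
  have hΘ : Θ ∈ X := by rw [hXe]; simp
  have hΘ' : Θ' ∈ X := by rw [hXe]; simp
  -- general splitting
  have hsplitC : ∀ f : IrrCharacter G → ℂ, (∀ χ, χ ∉ NE → χ ∉ X → f χ = 0) →
      ∑ χ, f χ = ∑ χ ∈ NE, f χ + (f Θ + f Θ') := by
    intro f hf
    rw [← Finset.sum_pair hne, ← hXe, ← Finset.sum_union hdis]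
    symm
    refine Finset.sum_subset (Finset.subset_univ _) fun χ _ hχ => ?_
    rw [Finset.mem_union, not_or] at hχ
    exact hf χ hχ.1 hχ.2
  have hsplitR : ∀ f : IrrCharacter G → ℝ, (∀ χ, χ ∉ NE → χ ∉ X → f χ = 0) →
      ∑ χ, f χ = ∑ χ ∈ NE, f χ + (f Θ + f Θ') := by
    intro f hf
    rw [← Finset.sum_pair hne, ← hXe, ← Finset.sum_union hdis]
    symm
    refine Finset.sum_subset (Finset.subset_univ _) fun χ _ hχ => ?_
    rw [Finset.mem_union, not_or] at hχ
    exact hf χ hχ.1 hχ.2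
  have hεsq : ∀ χ ∈ NE, ((ε χ : ℂ)) * ε χ = 1 := by
    intro χ hχ
    rcases hε χ hχ with h | h <;> rw [h] <;> simp
  -- `Θ x + Θ' x = - d`
  have hone : ¬ 23 ∣ orderOf (1 : G) := by rw [orderOf_one]; norm_num
  have hs1 := hsum Θ hΘ 1 hone
  have hs2 := hsum Θ' hΘ' 1 hone
  have hd0 : (d : ℂ) ≠ 0 := by rcases hd with h | h <;> rw [h] <;> simp
  have hdd : (d : ℂ) * d = 1 := by rcases hd with h | h <;> rw [h] <;> simp
  have heq : (Θ' : G → ℂ) 1 = (Θ : G → ℂ) 1 := mul_left_cancel₀ hd0 (hs2.symm.trans hs1)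
  have hΘ0 : (Θ : G → ℂ) 1 ≠ 0 := isIrr_apply_one_ne_zero Θ.2
  have hcol : ∑ χ : IrrCharacter G, (χ : G → ℂ) x * (χ : G → ℂ) 1 = 0 := by
    have h2 := S0145.sum_irr_mul_conj x 1
    have hnc : ¬ IsConj x 1 := fun h => hx1 (isConj_one_left.1 h)
    rw [if_neg hnc] at h2
    rw [← h2]
    refine Finset.sum_congr rfl fun χ _ => ?_
    obtain ⟨n, -, hn1⟩ := isIrr_apply_one χ.2
    rw [hn1, Complex.conj_natCast]
  rw [hsplitC _ fun χ h1 h2 => by rw [h0 χ h1 h2, zero_mul], Finset.sum_congr rfl fun χ hχ => by rw [hvx χ hχ], hs1,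
    heq] at hcol
  have hsm : (Θ : G → ℂ) x + (Θ' : G → ℂ) x = -d := by
    have : (Θ : G → ℂ) 1 * (d + ((Θ : G → ℂ) x + (Θ' : G → ℂ) x)) = 0 := by linear_combination hcol
    have h3 := (mul_eq_zero.1 this).resolve_left hΘ0
    linear_combination h3
  -- nonreality
  have hinv : ∀ χ : IrrCharacter G, conj ((χ : G → ℂ) x⁻¹) = (χ : G → ℂ) x := fun χ => by
    rw [isCharacter_apply_inv (isIrr_isCharacter χ.2), Complex.conj_conj]
  have hnr2 : ∑ χ : IrrCharacter G, (χ : G → ℂ) x * (χ : G → ℂ) x = 0 := by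
    have h2 := S0145.sum_irr_mul_conj x x⁻¹
    rw [if_neg hnr] at h2
    rw [← h2]
    exact Finset.sum_congr rfl fun χ _ => by rw [hinv]
  rw [hsplitC _ fun χ h1 h2 => by rw [h0 χ h1 h2, zero_mul], Finset.sum_congr rfl fun χ hχ => by
    rw [hvx χ hχ, hεsq χ hχ], Finset.sum_const, hNE] at hnr2
  have hprod : (Θ : G → ℂ) x * (Θ' : G → ℂ) x = 6 := by
    have h3 : ((Θ : G → ℂ) x + (Θ' : G → ℂ) x) ^ 2 = 1 := by rw [hsm]; linear_combination hdd
    simp only [nsmul_eq_mul, mul_one] at hnr2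
    push_cast at hnr2
    linear_combination (1 / 2 : ℂ) * h3 - (1 / 2 : ℂ) * hnr2
  have huv : ‖(Θ : G → ℂ) x‖ * ‖(Θ' : G → ℂ) x‖ = 6 := by
    rw [← norm_mul, hprod]
    norm_num
  -- the sum of the squares
  have hcx : Nat.card (Subgroup.centralizer ({x} : Set G)) = 23 := by
    have hC' : Subgroup.centralizer ({x} : Set G) = (P : Subgroup G) :=
      (Blocks.CyclicOrtho.centralizer_eq P hP hx hx1).trans hC
    rw [hC']
    exact hP
  have h1n : ∀ χ ∈ NE, ‖(χ : G → ℂ) x‖ = 1 := by
    intro χ hχ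
    rw [hvx χ hχ]
    rcases hε χ hχ with h | h <;> rw [h] <;> simp
  have hsq : ∑ χ : IrrCharacter G, ‖(χ : G → ℂ) x‖ ^ 2 = 23 := by
    have h2 := Cfsg.Agent.H686.CharKit.sum_normSq x
    rw [hcx] at h2
    simp only [Complex.normSq_eq_norm_sq] at h2
    exact_mod_cast h2
  rw [hsplitR _ fun χ h1 h2 => by rw [h0 χ h1 h2]; simp, Finset.sum_congr rfl fun χ hχ => by rw [h1n χ hχ, one_pow],
    Finset.sum_const, hNE] at hsq
  rw [hsplitR _ fun χ h1 h2 => by rw [h0 χ h1 h2]; simp, Finset.sum_congr rfl fun χ hχ => by rw [h1n χ hχ, one_pow],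
    Finset.sum_const, hNE]
  simp only [nsmul_eq_mul, mul_one] at hsq ⊢
  push_cast at hsq ⊢
  set u := ‖(Θ : G → ℂ) x‖
  set v := ‖(Θ' : G → ℂ) x‖
  have h8 : u ^ 2 + v ^ 2 = 12 := by linarith only [hsq]
  have h9 : u ^ 4 + v ^ 4 = 72 := by
    have : u ^ 4 + v ^ 4 = (u ^ 2 + v ^ 2) ^ 2 - 2 * (u * v) ^ 2 := by ring
    rw [this, h8, huv]
    norm_num
  linarith only [h9]

/-- **T1 for `Co1`**: the elements with `|C(g)| ≤ 38726` are commutators. -/
theorem isC {g : Spor.Co1} (hg : Nat.card (Subgroup.centralizer ({g} : Set Spor.Co1)) ≤ 38726) :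
    Cfsg.Agent.H777.Ore.IsC g := by
  have := Cfsg.Agent.H133.Ore.Co1.simple
  have := Cfsg.Agent.H133.Ore.Co1.fin
  have hfi : Finite (IrrCharacter Spor.Co1) := Cfsg.Agent.Characters.Core.finite_irr
  have := Fintype.ofFinite (IrrCharacter Spor.Co1)
  have : Fact (Nat.Prime 23) := ⟨by norm_num⟩
  have h1 : Nat.card (Subgroup.centralizer ({g} : Set Spor.Co1)) ≤ 38725 := by
    have h2 : Nat.card (Subgroup.centralizer ({g} : Set Spor.Co1)) ∣ 4157776806543360000 := by
      rw [← Cfsg.Agent.H133.Ore.Co1.card]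
      exact Subgroup.card_subgroup_dvd_card _
    by_contra hcon
    have h3 : Nat.card (Subgroup.centralizer ({g} : Set Spor.Co1)) = 38726 := by omega
    rw [h3] at h2
    exact absurd h2 (by norm_num)
  obtain ⟨x, hx⟩ := Cfsg.Agent.H133.Ore.exists_order Cfsg.Agent.H133.Ore.Co1.card (p := 23) (by norm_num) (by norm_num)
  have hcx := Cfsg.Agent.H823.Rec.Co1Facts.sc x hx
  have hpg : IsPGroup 23 (Subgroup.zpowers x) := IsPGroup.of_card (n := 1) (by rw [Nat.card_zpowers, hx, pow_one])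
  obtain ⟨P, hxP⟩ := hpg.exists_le_sylow
  have hP : Nat.card P = 23 := SmallSimple.PrimeLocal.card_of_not_sq_dvd (by rw [Cfsg.Agent.H133.Ore.Co1.card]; norm_num)
    (by rw [Cfsg.Agent.H133.Ore.Co1.card]; norm_num) P
  have hPx : (P : Subgroup Spor.Co1) = Subgroup.zpowers x := by
    have h3 : Nat.card (Subgroup.zpowers x) = Nat.card (P : Subgroup Spor.Co1) := by
      rw [Nat.card_zpowers, hx]; exact hP.symm
    exact (Subgroup.eq_of_le_of_card_ge hxP h3.ge).symm
  have hxmem : x ∈ P := by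
    show x ∈ (P : Subgroup Spor.Co1)
    rw [hPx]; exact Subgroup.mem_zpowers x
  have hx1 : x ≠ 1 := by
    rintro rfl
    rw [orderOf_one] at hx
    exact absurd hx (by norm_num)
  have he := Cfsg.Agent.H590.Ore.Exact.relIndex_eq (p := 23) (k := 1) (e := 11) Cfsg.Agent.H133.Ore.Co1.not_comm
    Cfsg.Agent.H133.Ore.Co1.card P hx hPx (by rw [hcx]) (by norm_num) (by norm_num) (by decide +kernel)
  have hCx : Subgroup.centralizer ((P : Subgroup Spor.Co1) : Set Spor.Co1) = Subgroup.centralizer ({x} : Set Spor.Co1) := by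
    rw [hPx, SmallSimple.SelfCentPrime.centralizer_zpowers]
  have hCP : Subgroup.centralizer ((P : Subgroup Spor.Co1) : Set Spor.Co1) = (P : Subgroup Spor.Co1) := by
    symm
    apply Subgroup.eq_of_le_of_card_ge (Cfsg.Agent.SmallSimple.ThetaSetup.le_centralizer hP)
    have h3 : Nat.card (Subgroup.centralizer ((P : Subgroup Spor.Co1) : Set Spor.Co1)) = 23 := by rw [hCx, hcx]
    exact (h3.trans hP.symm).le
  have hnr : ¬ (IsConj x x⁻¹ :) := by
    refine not_real (H := Subgroup.centralizer ((P : Subgroup Spor.Co1) : Set Spor.Co1))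
      (K := Subgroup.normalizer ((P : Subgroup Spor.Co1) : Set Spor.Co1)) (Subgroup.centralizer_le_normalizer _) ?_ he
      ?_ ?_ ?_ ?_
    · infer_instance
    · intro g hg
      rw [hCx, Subgroup.mem_centralizer_singleton_iff] at hg
      rw [hg, mul_inv_cancel_right]
    · intro g hg
      refine SmallSimple.ThetaOrtho.mem_normalizer_of_conj hP hxmem (P.inv_mem hxmem) (inv_ne_one.2 hx1) hg
    · intro g hg
      rw [hCx, Subgroup.mem_centralizer_singleton_iff]
      have h3 : g * (g * x * g⁻¹) * g⁻¹ = x := by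
        calc g * (g * x * g⁻¹) * g⁻¹ = g * x⁻¹ * g⁻¹ := by rw [hg]
          _ = (g * x * g⁻¹)⁻¹ := by group
          _ = x := by rw [hg, inv_inv]
      have h5 : g * g * x * (g * g)⁻¹ = x := by
        calc g * g * x * (g * g)⁻¹ = g * (g * x * g⁻¹) * g⁻¹ := by group
          _ = x := h3
      exact mul_inv_eq_iff_eq_mul.1 h5
    · intro h
      have h3 : x ^ 2 = 1 := by
        rw [pow_two]
        nth_rewrite 2 [h]
        exact mul_inv_cancel x
      have h4 := orderOf_dvd_of_pow_eq_one h3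
      rw [hx] at h4
      exact absurd h4 (by norm_num)
  have h4 := fourth_nonreal hP hCP he hxmem hx1 hnr
  have hvan : ∀ χ : IrrCharacter Spor.Co1, 23 ∣ charDegree (χ : Spor.Co1 → ℂ) → (χ : Spor.Co1 → ℂ) x = 0 := by
    intro χ h5
    exact Cfsg.Agent.H511.Ore.vanish_of_dvd (p := 23) (n := 1) (by norm_num)
      (by rw [Cfsg.Agent.H133.Ore.Co1.card]; norm_num) (by rw [Cfsg.Agent.H133.Ore.Co1.card]; norm_num)
      (by rwa [pow_one]) (by rw [hx])
  refine Cfsg.Agent.H511.Ore.isC_of_fourth (x := x) (d := 1782) (S := 82) h4 (fun χ h5 h6 => ?_) ?_ (by norm_num)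
  · exact degOff χ h5 fun h7 => h6 (hvan χ h7)
  · have h5 : (Nat.card (Subgroup.centralizer ({g} : Set Spor.Co1)) : ℝ) ≤ 38725 := by exact_mod_cast h1
    norm_num only [_root_.gt_iff_lt]
    linarith only [h5]

end Cfsg.Agent.H590.Ore.CoOneDeg
end

private theorem dce_56cba999fa81 : _root_.True := by
  try have : _root_.True := by simp only [_root_.Cfsg.Agent.H590.Ore.CoOneDeg.rZ.congr_simp]
  try have : _root_.True := by simp only [_root_.Cfsg.Agent.H590.Ore.CoOneDeg.rA.congr_simp]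
  try have : _root_.True := by simp only [_root_.Cfsg.Agent.H590.Ore.CoOneDeg.dY.congr_simp]
  exact _root_.True.intro
end
end
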